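import Cfsg.Agent.Mit.L27
import Cfsg.Agent.Mit.Rep
import Cfsg.Agent.Local.SixRecog
import Cfsg.Agent.S2119

/-!
# Normalisers of the covers of `A₆` and `A₇` in `GL₃`
-/

set_option autoImplicit false

namespace Cfsg.Lib.Mit

open Matrix Cfsg.Geo Cfsg.Lib.Class Cfsg.Lib.Class.Asch Equiv Equiv.Perm
open scoped MatrixGroups commutatorElement

variable {F : Type*} [Field F] {P : Subgroup (GL (Fin 3) F)} {G : Type*} [Group G] {π : P →* G}

theorem Cov.proj (h : Cov P π) : Proj P π := ⟨h.surj, h.ker⟩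

theorem Cov.commutator_eq (h : Cov P π) {x x' y y' : P} (hx : π x = π x') (hy : π y = π y') :
    ⁅x, y⁆ = ⁅x', y'⁆ := by
  obtain ⟨z, hz, rfl⟩ := h.exists_mul hx
  obtain ⟨w, hw, rfl⟩ := h.exists_mul hy
  calc ⁅z * x', w * y'⁆ = z * (x' * (w * (y' * x'⁻¹))) * z⁻¹ * y'⁻¹ * w⁻¹ := by
        rw [commutatorElement_def]; group
    _ = x' * (w * (y' * x'⁻¹ * y'⁻¹)) * w⁻¹ := by rw [h.comm hz]; group
    _ = _ := by rw [h.comm hw, commutatorElement_def]; group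

/-- `g` normalises `P` and induces `ψ`. -/
structure Ind (π : P →* G) (g : GL (Fin 3) F) (ψ : MulAut G) : Prop where
  nrm : ∀ x ∈ P, g * x * g⁻¹ ∈ P
  map : ∀ x : P, ψ (π x) = π ⟨g * x * g⁻¹, nrm x x.2⟩

theorem Cov.exists_ind [Finite G] (h : Cov P π) {g : GL (Fin 3) F}
    (hg : ∀ x ∈ P, g * x * g⁻¹ ∈ P) : ∃ ψ, Ind π g ψ :=
  let ⟨ψ, h1, h2⟩ := h.proj.exists_ind hg
  ⟨MulEquiv.ofBijective ψ (Finite.injective_iff_bijective.1 h1), hg, h2⟩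

theorem Ind.mul {g g' : GL (Fin 3) F} {ψ ψ' : MulAut G} (h : Ind π g ψ) (h' : Ind π g' ψ') :
    Ind π (g * g') (ψ * ψ') :=
  ⟨fun x hx => by simpa [mul_assoc] using h.nrm _ (h'.nrm x hx), fun x => by
    rw [MulAut.mul_apply, h'.map, h.map]
    exact congrArg π (Subtype.ext (by simp [mul_assoc]))⟩

theorem Ind.inner (π : P →* G) (a : P) : Ind π a (MulAut.conj (π a)) :=
  ⟨fun x hx => mul_mem (mul_mem a.2 hx) (inv_mem a.2), fun x => by
    rw [MulAut.conj_apply, ← map_inv, ← map_mul, ← map_mul]; rfl⟩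

theorem Ind.mem (h : Cov P π) (hP : QS P) {g : GL (Fin 3) F} {a : G}
    (hI : Ind π g (MulAut.conj a)) : g ∈ P ⊔ scalars (Fin 3) F := by
  obtain ⟨a, rfl⟩ := h.surj a
  have := h.proj.mem_of_inner hP hI.nrm (p := a) fun x => (hI.map x).symm
  simpa using mul_mem (Subgroup.mem_sup_left a.2) (Subgroup.mem_sup_right this)

theorem Ind.commutator (h : Cov P π) {g : GL (Fin 3) F} {ψ : MulAut G} (hI : Ind π g ψ)
    {x y x' y' : P} (hc : π ⁅x, y⁆ = 1) (hx : π x' = ψ (π x)) (hy : π y' = ψ (π y)) :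
    ⁅x', y'⁆ = ⁅x, y⁆ := by
  rw [h.commutator_eq (hx.trans (hI.map x)) (hy.trans (hI.map y))]
  refine Subtype.ext ?_
  have := comm_of_mem_scalars ((h.ker _).1 hc) g
  change ⁅g * x * g⁻¹, g * y * g⁻¹⁆ = ⁅(x : GL (Fin 3) F), (y : GL (Fin 3) F)⁆
  rw [← conjugate_commutatorElement, mul_inv_eq_iff_eq_mul]
  exact this.symm

theorem Ind.tr_eq (h : Cov P π) {g : GL (Fin 3) F} {ψ : MulAut G} (hI : Ind π g ψ) {x y : P}
    (e : IsConj (ψ (π x)) (π y)) {m : ℕ} (hx : x ^ m = 1) (hy : y ^ m = 1) (hm : m.Coprime 3) :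
    tr (y : GL (Fin 3) F) = tr (x : GL (Fin 3) F) := by
  rw [hI.map] at e
  rw [h.tr_eq e (Subtype.ext (by
    rw [Subgroup.coe_pow, conj_pow, ← Subgroup.coe_pow, hx]; simp)) hy hm, tr_conj]

/-- A pair of real commuting elements of order three generating a group of order nine. -/
structure Nine (x y : G) : Prop where
  x3 : x ^ 3 = 1
  y3 : y ^ 3 = 1
  comm : x * y = y * x
  rx : IsConj x x⁻¹
  ry : IsConj y y⁻¹
  x1 : x ≠ 1
  y1 : y ≠ 1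
  xy : x * y ≠ 1
  xxy : x ^ 2 * y ≠ 1

theorem Cov.nine (h : Cov P π) (h3 : (3 : F) ≠ 0) {x y : G} (hN : Nine x y) :
    ∃ X Y : P, π X = x ∧ π Y = y ∧ π ⁅X, Y⁆ = 1 ∧ ⁅X, Y⁆⁻¹ ≠ ⁅X, Y⁆ ∧ ⁅X⁻¹, Y⁆ = ⁅X, Y⁆⁻¹ ∧
      ⁅X * Y, X⁆ = ⁅X, Y⁆⁻¹ ∧ ⁅X * Y, Y⁻¹⁆ = ⁅X, Y⁆⁻¹ ∧ ⁅X * Y, X⁻¹ * Y⁆ = ⁅X, Y⁆⁻¹ := by
  obtain ⟨X, rfl⟩ := h.surj x
  obtain ⟨Y, rfl⟩ := h.surj y
  have h1 : π ⁅X, Y⁆ = 1 := by
    rw [map_commutatorElement, commutatorElement_eq_one_iff_mul_comm, hN.comm]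
  have h2 := h.cube h1
  have hc : ∀ a : P, a * ⁅X, Y⁆ * a⁻¹ = ⁅X, Y⁆ := fun a => by
    rw [← h.comm h1, mul_inv_cancel_right]
  have hc' : ∀ a : P, a * ⁅X, Y⁆⁻¹ * a⁻¹ = ⁅X, Y⁆⁻¹ := fun a => by
    rw [← conj_inv, hc]
  refine ⟨X, Y, rfl, rfl, h1, fun e => ?_, ?_, ?_, ?_, ?_⟩
  · have h4 : ⁅X, Y⁆ = 1 := by
      rw [pow_succ, sq] at h2
      nth_rewrite 1 [← e] at h2
      rwa [inv_mul_cancel, one_mul] at h2
    rcases h.e9 h3 (h.cube_of_real hN.x3 hN.rx) (h.cube_of_real hN.y3 hN.ry)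
      (commutatorElement_eq_one_iff_mul_comm.1 h4) hN.x1 with e | e | e
    exacts [hN.y1 e, hN.xy e, hN.xxy e]
  · rw [← hc' X⁻¹]; simp only [commutatorElement_def]; group
  · rw [← hc' X]; simp only [commutatorElement_def]; group
  · rw [← hc' Y⁻¹]; simp only [commutatorElement_def]; group
  · rw [eq_inv_iff_mul_eq_one, ← h2, pow_succ, sq]
    nth_rewrite 3 [← hc X⁻¹]
    simp only [commutatorElement_def]; group

theorem Ind.mem_of_conjNormal {n : ℕ} {π : P →* alternatingGroup (Fin n)} (h : Cov P π)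
    (hP : QS P) (h3 : (3 : F) ≠ 0) {x y : alternatingGroup (Fin n)} (hN : Nine x y)
    {τ : Perm (Fin n)} (hτ : sign τ = -1) (e1 : MulAut.conjNormal τ x = x⁻¹)
    (e2 : MulAut.conjNormal τ y = y) {g : GL (Fin 3) F} {σ : Perm (Fin n)}
    (hI : Ind π g (MulAut.conjNormal σ)) : g ∈ P ⊔ scalars (Fin 3) F := by
  rcases Int.units_eq_one_or (sign σ) with hσ | hσ
  · exact Ind.mem h hP (a := ⟨σ, hσ⟩) (by convert hI using 1; ext; simp)
  obtain ⟨a, ha⟩ := h.surj ⟨τ * σ⁻¹, by simp [hσ, hτ]⟩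
  have hJ := (Ind.inner π a).mul hI
  rw [show MulAut.conj (π a) * MulAut.conjNormal σ = MulAut.conjNormal τ by
    ext; simp [ha, mul_assoc]] at hJ
  obtain ⟨X, Y, rfl, rfl, h1, h2, h4, -⟩ := h.nine h3 hN
  exact absurd (h4.symm.trans (hJ.commutator h h1 (by rw [e1, map_inv]) e2.symm)) h2

theorem a7_norm {π : P →* alternatingGroup (Fin 7)} (h : Cov P π) (hP : QS P) (h3 : (3 : F) ≠ 0)
    {g : GL (Fin 3) F} (hg : ∀ x ∈ P, g * x * g⁻¹ ∈ P) : g ∈ P ⊔ scalars (Fin 3) F := by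
  obtain ⟨ψ, hI⟩ := h.exists_ind hg
  obtain ⟨σ, rfl⟩ := (Agent.S2119.result 7 (by decide) (by decide)).2 ψ
  exact hI.mem_of_conjNormal h hP h3
    (x := ⟨swap 0 1 * swap 1 2, mem_alternatingGroup.2 (by decide)⟩)
    (y := ⟨swap 3 4 * swap 4 5, mem_alternatingGroup.2 (by decide)⟩)
    ⟨by decide, by decide, by decide,
      isConj_iff.2 ⟨⟨swap 0 1 * swap 3 4, mem_alternatingGroup.2 (by decide)⟩, by decide⟩,
      isConj_iff.2 ⟨⟨swap 0 1 * swap 3 4, mem_alternatingGroup.2 (by decide)⟩, by decide⟩,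
      by decide, by decide, by decide, by decide⟩ (τ := swap 0 1) (by decide)
    (Subtype.ext (by decide)) (Subtype.ext (by decide))

/-- The three-cycle `(0 1 2)`. -/
def a6x : alternatingGroup (Fin 6) := ⟨swap 0 1 * swap 1 2, mem_alternatingGroup.2 (by decide)⟩
/-- The three-cycle `(3 4 5)`. -/
def a6y : alternatingGroup (Fin 6) := ⟨swap 3 4 * swap 4 5, mem_alternatingGroup.2 (by decide)⟩
/-- The three-cycle `(2 3 4)`. -/
def a6s : alternatingGroup (Fin 6) := ⟨swap 2 3 * swap 3 4, mem_alternatingGroup.2 (by decide)⟩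

theorem a6_nine : Nine a6x a6y :=
  ⟨by decide, by decide, by decide,
    isConj_iff.2 ⟨⟨swap 0 1 * swap 3 4, mem_alternatingGroup.2 (by decide)⟩, by decide⟩,
    isConj_iff.2 ⟨⟨swap 0 1 * swap 3 4, mem_alternatingGroup.2 (by decide)⟩, by decide⟩,
    by decide, by decide, by decide, by decide⟩

theorem a6_cent : ∀ z : Perm (Fin 6), sign z = 1 → (a6x * a6y).1 * z = z * (a6x * a6y).1 →
    z ∈ [1, (a6x * a6y).1, (a6x * a6y)⁻¹.1, a6x.1, a6y⁻¹.1, (a6x⁻¹ * a6y).1, a6x⁻¹.1, a6y.1,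
      (a6x * a6y⁻¹).1] := by decide +kernel

theorem a6_swap : ∀ z ∈ [a6x⁻¹.1, a6y.1, (a6x * a6y⁻¹).1], ∀ s : Perm (Fin 6), s ^ 3 = 1 →
    (z * s) ^ 2 = 1 → ((a6x * a6y).1 * s) ^ 5 = 1 → sign s = 1 → ∃ k : Perm (Fin 6),
      k * ((a6x * a6y).1 * s) = ((a6x * a6s) ^ 2).1 * k ∧ sign k = 1 := by decide +kernel

theorem a6_three {z : alternatingGroup (Fin 6)} (hz : orderOf z = 3) :
    IsConj z a6x ∨ IsConj z (a6x * a6y) :=
  (Local.cycleType_of_order_three z hz).imp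
    (fun h => alternatingGroup.isThreeCycle_isConj (by simp) h
      (show a6x.1.cycleType = {3} by decide +kernel))
    fun h => Local.isConj_of_cycleType_33 _ _ h (by decide +kernel)

theorem a6_not_conj : ¬ IsConj a6x (a6x * a6y) := fun h =>
  absurd (isConj_iff_cycleType_eq.1 ((alternatingGroup (Fin 6)).subtype.map_isConj h))
    (by decide +kernel)

section Six

variable {π : P →* alternatingGroup (Fin 6)} {g : GL (Fin 3) F} {ψ : MulAut (alternatingGroup (Fin 6))}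

theorem Ind.exists_conj (h : Cov P π) (hI : Ind π g ψ) {x y : alternatingGroup (Fin 6)}
    (hc : IsConj (ψ x) y) : ∃ a : P, ∃ ψ', Ind π (a * g) ψ' ∧ ψ' x = y := by
  obtain ⟨a, ha⟩ := isConj_iff.1 hc
  obtain ⟨a, rfl⟩ := h.surj a
  exact ⟨a, _, (Ind.inner π a).mul hI, ha⟩

theorem Ind.mem_of_keep (h : Cov P π) (hP : QS P) (h3 : (3 : F) ≠ 0) (hI : Ind π g ψ)
    (hc : IsConj (ψ a6x) a6x) : g ∈ P ⊔ scalars (Fin 3) F := by
  obtain ⟨a, ψ', hJ, e⟩ := hI.exists_conj h hc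
  obtain ⟨σ, rfl⟩ := Local.exists_conjNormal_eq ψ' a6x
    (orderOf_eq_prime a6_nine.x3 a6_nine.x1) e
  exact (mul_mem_cancel_left (Subgroup.mem_sup_left a.2)).1 (hJ.mem_of_conjNormal h hP h3 a6_nine
    (τ := swap 0 1) (by decide) (Subtype.ext (by decide)) (Subtype.ext (by decide)))

theorem Ind.five_of_swap [Finite F] (h : Cov P π) (h3 : (3 : F) ≠ 0) (hI : Ind π g ψ)
    (hc : IsConj (ψ a6x) (a6x * a6y)) : (5 : F) = 0 := by
  obtain ⟨a, ψ, hJ, e⟩ := hI.exists_conj h hc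
  obtain ⟨X, Y, hX, hY, h1, h2, -, h4, h5, h6⟩ := h.nine h3 a6_nine
  have key : ∀ Y' : P, ⁅X * Y, Y'⁆ = ⁅X, Y⁆⁻¹ → (ψ a6y).1 ≠ (π Y').1 := fun Y' e1 e2 =>
    h2 (e1.symm.trans (hJ.commutator h h1 (by rw [map_mul, hX, hY, e])
      (by rw [hY, Subtype.ext e2])))
  have key2 : ∀ z, a6y ≠ z → (ψ a6y).1 ≠ (ψ z).1 := fun z e1 e2 =>
    e1 (ψ.injective (Subtype.ext e2))
  have hm : (ψ a6y).1 ∈ [a6x⁻¹.1, a6y.1, (a6x * a6y⁻¹).1] := by
    have := a6_cent (ψ a6y) (ψ a6y).2 (by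
      rw [← e, ← Subgroup.coe_mul, ← Subgroup.coe_mul, ← map_mul, ← map_mul, a6_nine.comm])
    have e1 := key2 1 (by decide)
    have e2 := key2 a6x (by decide)
    have e3 := key2 a6x⁻¹ (by decide)
    have e4 := key X h4
    have e5 := key Y⁻¹ h5
    have e6 := key (X⁻¹ * Y) h6
    simp only [map_one, map_inv, map_mul, e, hX, hY, OneMemClass.coe_one] at e1 e2 e3 e4 e5 e6
    simpa only [List.mem_cons, e1, e2, e3, e4, e5, e6, false_or] using this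
  have hr : ∀ z k, z ^ k = 1 → (ψ z).1 ^ k = 1 := fun z k hz => by
    rw [← Subgroup.coe_pow, ← map_pow, hz, map_one, OneMemClass.coe_one]
  obtain ⟨k, hk, hk'⟩ := a6_swap _ hm (ψ a6s) (hr _ _ (by decide))
    (by simpa using hr (a6y * a6s) 2 (by decide)) (by simpa [e] using hr (a6x * a6s) 5 (by decide))
    (ψ a6s).2
  obtain ⟨C, hC, hC5⟩ := h.proj.exists_lift h.sl (k := 5) (by decide) (b := a6x * a6s) (by decide)
  obtain ⟨p, hp⟩ := CharP.exists F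
  have hp' : Fact p.Prime := ⟨CharP.char_is_prime F p⟩
  obtain rfl := char_eq_five p (h.sl C.2) (congrArg Subtype.val hC5)
    (fun e => absurd ((h.ker C).2 (e ▸ one_mem _)) (by rw [hC]; decide))
    (h.tr_inv (by
      rw [hC]
      exact isConj_iff.2 ⟨⟨swap 1 4 * swap 2 3, mem_alternatingGroup.2 (by decide)⟩, by decide⟩)
      hC5 (by decide))
    (hJ.tr_eq h (y := C ^ 2) (by
      rw [map_pow, hC, map_mul, e]
      exact isConj_iff.2 ⟨⟨k, hk'⟩, Subtype.ext (mul_inv_eq_iff_eq_mul.2 hk)⟩) hC5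
      (by rw [← pow_mul, mul_comm, pow_mul, hC5, one_pow]) (by decide))
  exact CharP.cast_eq_zero F 5

theorem a6_norm [Finite F] (h : Cov P π) (hP : QS P) (h3 : (3 : F) ≠ 0) {H : Subgroup (GL (Fin 3) F)}
    (hH : NrmG H P) : H ≤ P ⊔ scalars (Fin 3) F ∨ ((5 : F) = 0 ∧ ∀ g ∈ H, ∀ g' ∈ H,
      g ∉ P ⊔ scalars (Fin 3) F → g' ∉ P ⊔ scalars (Fin 3) F → g * g' ∈ P ⊔ scalars (Fin 3) F) := by
  have ho : ∀ (ψ : MulAut (alternatingGroup (Fin 6))) z, z ^ 3 = 1 → z ≠ 1 → orderOf (ψ z) = 3 :=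
    fun ψ z h1 h2 => (ψ.orderOf_eq z).trans (orderOf_eq_prime h1 h2)
  have key : ∀ g ∈ H, g ∉ P ⊔ scalars (Fin 3) F → ∃ ψ, Ind π g ψ ∧ IsConj (ψ a6x) (a6x * a6y) :=
    fun g hg hg' => (h.exists_ind (hH g hg)).imp fun ψ hI => ⟨hI, (a6_three
      (ho ψ _ a6_nine.x3 a6_nine.x1)).resolve_left fun e => hg' (hI.mem_of_keep h hP h3 e)⟩
  refine or_iff_not_imp_left.2 fun hn => ⟨?_, fun g hg g' hg' h1 h2 => ?_⟩
  · obtain ⟨g, hg, hg'⟩ := SetLike.not_le_iff_exists.1 hn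
    obtain ⟨ψ, hI, e⟩ := key g hg hg'
    exact hI.five_of_swap h h3 e
  obtain ⟨ψ, hI, e⟩ := key g hg h1
  obtain ⟨ψ', hI', e'⟩ := key g' hg' h2
  refine (hI.mul hI').mem_of_keep h hP h3 ((ψ.toMonoidHom.map_isConj e').trans
    ((a6_three (ho ψ _ (by decide) a6_nine.xy)).resolve_right fun e1 => a6_not_conj ?_))
  simpa using ψ.symm.toMonoidHom.map_isConj (e.trans e1.symm)

end Six

theorem a6_pow : ∀ g : Perm (Fin 6), sign g = 1 → g ^ 3 = 1 ∨ g ^ 4 = 1 ∨ g ^ 5 = 1 := by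
  decide +kernel

theorem a6_sq : ∀ b : Perm (Fin 6), b * b = swap 0 2 * swap 1 3 → sign b = 1 →
    b = swap 0 1 * swap 1 2 * swap 2 3 * swap 4 5 ∨
      b⁻¹ = swap 0 1 * swap 1 2 * swap 2 3 * swap 4 5 := by decide +kernel

theorem a6_invol : ∀ b : Perm (Fin 6), b * b = 1 → sign b = 1 → b = 1 ∨
    b.cycleType = {2, 2} := by decide +kernel

/-- Square roots of order four of an involution are unique up to inversion. -/
def NoQ8 (G : Type*) [Group G] : Prop :=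
  ∀ a b : G, a * a = b * b → a * a * (a * a) = 1 → a * a = 1 ∨ a = b ∨ a = b⁻¹

theorem noQ8_a6 : NoQ8 (alternatingGroup (Fin 6)) := fun ⟨a, ha⟩ ⟨b, hb⟩ h1 h2 => by
  simp only [Subtype.ext_iff, Subgroup.coe_mul, OneMemClass.coe_one, Subgroup.coe_inv] at *
  refine (a6_invol _ h2 (by simp)).imp_right fun h => ?_
  obtain ⟨k, hk⟩ := isConj_iff.1 ((isConj_iff_cycleType_eq (σ := a * a)
    (τ := swap 0 2 * swap 1 3)).2 (h.trans (by decide +kernel)))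
  have key : ∀ c : Perm (Fin 6), c * c = a * a → sign c = 1 → _ := fun c e1 e2 =>
    a6_sq (k * c * k⁻¹) (by rw [← hk, ← e1]; group) (by simp [e2])
  rcases key a rfl ha with e | e <;> rcases key b h1.symm hb with e' | e' <;>
    have := e.trans e'.symm <;>
    simp only [conj_inv, mul_left_inj, mul_right_inj, inv_eq_iff_eq_inv, inv_inv] at this
  exacts [.inl this, .inr this, .inr this, .inl this]

theorem noQ8_l27 : NoQ8 Known.G168.tab.El := by unfold NoQ8; decide +kernel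

theorem l27_pow : ∀ g : Known.G168.tab.El, g ^ 3 = 1 ∨ g ^ 4 = 1 ∨ g ^ 7 = 1 := by decide +kernel

/-- Every element has a scalar power with exponent in `s`. -/
def Pw (X : Subgroup (GL (Fin 3) F)) (s : List ℕ) : Prop :=
  ∀ g ∈ X, ∃ k ∈ s, g ^ k ∈ scalars (Fin 3) F

/-- There is no quaternion group modulo scalars. -/
def NoQ (X : Subgroup (GL (Fin 3) F)) : Prop :=
  ∀ a ∈ X, ∀ b ∈ X, (a * a)⁻¹ * (b * b) ∈ scalars (Fin 3) F → a * a * (a * a) ∈ scalars (Fin 3) F →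
    a * a ∈ scalars (Fin 3) F ∨ a⁻¹ * b ∈ scalars (Fin 3) F ∨ a⁻¹ * b⁻¹ ∈ scalars (Fin 3) F

theorem Cov.exists_emb (h : Cov P π) : ∃ ι : G →* GL (Fin 3) F ⧸ scalars (Fin 3) F,
    Function.Injective ι ∧ ∀ g ∈ P ⊔ scalars (Fin 3) F, ∃ b, (g : _ ⧸ _) = ι b := by
  let ι := π.liftOfSurjective h.surj ⟨(QuotientGroup.mk' (scalars (Fin 3) F)).comp P.subtype,
    fun x hx => (QuotientGroup.eq_one_iff _).2 ((h.ker x).1 hx)⟩
  have e : ∀ x : P, ι (π x) = (x : GL (Fin 3) F) := fun x => π.liftOfRightInverse_comp_apply _ _ _ x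
  refine ⟨ι, (injective_iff_map_eq_one _).2 fun b hb => ?_, fun g hg => ?_⟩
  · obtain ⟨x, rfl⟩ := h.surj b
    exact (h.ker x).2 ((QuotientGroup.eq_one_iff _).1 ((e x).symm.trans hb))
  · obtain ⟨x, hx, c, rfl⟩ := mem_sup_scalars.1 hg
    refine ⟨π ⟨x, hx⟩, ?_⟩
    rw [e, QuotientGroup.mk_mul, (QuotientGroup.eq_one_iff _).2 (scalarGL_mem c), one_mul]

theorem Cov.pw (h : Cov P π) {s : List ℕ} (hG : ∀ b : G, ∃ k ∈ s, b ^ k = 1) :
    Pw (P ⊔ scalars (Fin 3) F) s := fun g hg => by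
  obtain ⟨ι, -, h2⟩ := h.exists_emb
  obtain ⟨b, hb⟩ := h2 g hg
  refine (hG b).imp fun k hk => ⟨hk.1, (QuotientGroup.eq_one_iff _).1 ?_⟩
  rw [QuotientGroup.mk_pow, hb, ← map_pow, hk.2, map_one]

theorem Cov.noQ (h : Cov P π) (hG : NoQ8 G) : NoQ (P ⊔ scalars (Fin 3) F) := fun a ha b hb => by
  obtain ⟨ι, h1, h2⟩ := h.exists_emb
  obtain ⟨x, hx⟩ := h2 a ha
  obtain ⟨y, hy⟩ := h2 b hb
  simpa only [← QuotientGroup.eq, ← QuotientGroup.eq_one_iff, QuotientGroup.mk_mul,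
    QuotientGroup.mk_inv, hx, hy, ← map_mul, ← map_inv, h1.eq_iff, map_eq_one_iff ι h1,
    inv_mul_eq_one] using hG x y

theorem Pw.mono {X Y : Subgroup (GL (Fin 3) F)} {s : List ℕ} (h : Pw Y s) (hX : X ≤ Y) : Pw X s :=
  fun g hg => h g (hX hg)

theorem NoQ.mono {X Y : Subgroup (GL (Fin 3) F)} (h : NoQ Y) (hX : X ≤ Y) : NoQ X :=
  fun a ha b hb => h a (hX ha) b (hX hb)

variable [Finite F] {H : Subgroup (GL (Fin 3) F)}

theorem l27_norm (hP : QS P) (e : Nonempty (Bar P ≃* PSL(3, ZMod 2))) (h7 : (7 : F) ≠ 0)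
    (hH : NrmG H P) : H ≤ P ⊔ scalars (Fin 3) F := fun g hg => by
  obtain ⟨-, -, -, -, -, -, -, -, -, -, h⟩ := l27_data hP e h7
  obtain ⟨p, hp, h⟩ := h g (hH g hg)
  simpa using mul_mem (Subgroup.mem_sup_left hp) (Subgroup.mem_sup_right h)

theorem small_l27 (hP : QS P) (e : Nonempty (Bar P ≃* PSL(3, ZMod 2))) (h7 : (7 : F) ≠ 0)
    (hH : NrmG H P) : Pw H [3, 4, 7] ∧ NoQ H := by
  have := hP.simple
  obtain ⟨e'⟩ := Known.G168.nonempty_equiv (G := Bar P)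
    ((Nat.card_congr e.some.toEquiv).trans card_PSL_three_two)
  have h := hP.cov e'.symm
  exact ⟨(h.pw fun b => by simpa using l27_pow b).mono (l27_norm hP e h7 hH),
    (h.noQ noQ8_l27).mono (l27_norm hP e h7 hH)⟩

theorem a6_pow' (b : alternatingGroup (Fin 6)) : ∃ k ∈ [3, 4, 5], b ^ k = 1 := by
  simpa [Subtype.ext_iff] using a6_pow b b.2

theorem small_a6 (hP : QS P) (e : Nonempty (Bar P ≃* alternatingGroup (Fin 6))) (h3 : (3 : F) ≠ 0)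
    (h5 : (5 : F) ≠ 0) (hH : NrmG H P) : Pw H [3, 4, 5] ∧ NoQ H :=
  have h := hP.cov e.some
  have h1 := (a6_norm h hP h3 hH).resolve_right fun k => h5 k.1
  ⟨(h.pw a6_pow').mono h1, (h.noQ noQ8_a6).mono h1⟩

theorem small_five (hP : QS P) (e : Nonempty (Bar P ≃* alternatingGroup (Fin 6)) ∨
    Nonempty (Bar P ≃* alternatingGroup (Fin 7))) (h3 : (3 : F) ≠ 0) (hH : NrmG H P) :
    ∃ Y : Subgroup (GL (Fin 3) F), Pw Y [4, 5, 6, 7] ∧ ∀ g ∈ H, g * g ∈ Y := by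
  refine ⟨P ⊔ scalars (Fin 3) F, ?_⟩
  rcases e with ⟨⟨e⟩⟩ | ⟨⟨e⟩⟩
  · refine ⟨(hP.cov e).pw fun b => ?_, fun g hg => ?_⟩
    · rcases (by simpa using a6_pow' b : b ^ 3 = 1 ∨ b ^ 4 = 1 ∨ b ^ 5 = 1) with h | h | h
      · exact ⟨6, by simp, (pow_mul b 3 2).trans (by rw [h, one_pow])⟩
      all_goals exact ⟨_, by simp, h⟩
    · by_cases h : g ∈ P ⊔ scalars (Fin 3) F
      · exact mul_mem h h
      · exact ((a6_norm (hP.cov e) hP h3 hH).resolve_left fun k => h (k hg)).2 g hg g hg h h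
  · refine ⟨(hP.cov e).pw fun b => ?_, fun g hg => ?_⟩
    · rcases alt7_cases b with h | ⟨h, -⟩ | h | ⟨h, -⟩ <;> exact ⟨_, by simp, h⟩
    · exact mul_mem (a7_norm (hP.cov e) hP h3 (hH g hg)) (a7_norm (hP.cov e) hP h3 (hH g hg))

end Cfsg.Lib.Mit
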