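import Cfsg.Agent.Mit.A67
import Cfsg.Agent.Mit.TvCalc
import Cfsg.Agent.Mit.Trace
import Cfsg.Agent.Class.AL.Proper

/-!
# Explicit elements of `GL₃` and conjugation of subgroups
-/

set_option autoImplicit false

namespace Cfsg.Lib.Mit.Mx

open Matrix Cfsg.Geo Cfsg.Lib.Class Cfsg.Lib.Class.Asch
open scoped MatrixGroups commutatorElement

theorem isMaximalIn_of {Γ : Type*} [Group Γ] [Finite Γ] {G M : Subgroup Γ} (h1 : ¬ G ≤ M)
    (h : ∀ X, IsMaximalIn G X → M ⊓ G ≤ X → X ≤ M) : IsMaximalIn G (M ⊓ G) := by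
  have hlt : M ⊓ G < G := lt_of_le_of_ne inf_le_right fun e => h1 (e ▸ inf_le_left)
  refine ⟨hlt, fun Y hY hYG => ?_⟩
  by_cases e : Y = G
  · exact Or.inr e
  left
  obtain ⟨X, ⟨h2, h3⟩, hX⟩ := Set.Finite.exists_le_maximal (s := {N : Subgroup Γ | N < G})
    (Set.toFinite _) (a := Y) (lt_of_le_of_ne hYG e) |>.imp fun X h => (⟨⟨h.1, h.2.1⟩, h.2.2⟩ :
      (Y ≤ X ∧ X < G) ∧ ∀ ⦃N⦄, N < G → X ≤ N → N ≤ X)
  have hm : IsMaximalIn G X := ⟨h3, fun N h4 h5 => by
    by_cases e : N = G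
    · exact Or.inr e
    · exact Or.inl (le_antisymm (hX (lt_of_le_of_ne h5 e) h4) h4)⟩
  exact le_antisymm (le_inf (h2.trans (h X hm (hY.trans h2))) hYG) hY

variable {F : Type*} [Field F]

local notation "G3" => GL (Fin 3) F
local notation "M3" => Matrix (Fin 3) (Fin 3) F
local notation "S3" => scalars (Fin 3) F
local notation "SL3" => specialLinear (Fin 3) F

section Pl

variable {P : GL (Fin 3) F} {X Y : Subgroup (GL (Fin 3) F)}

theorem pl_mono (h : X ≤ Y) : pl P X ≤ pl P Y := Subgroup.comap_mono h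

theorem pl_inf (P : G3) (X Y : Subgroup G3) : pl P (X ⊓ Y) = pl P X ⊓ pl P Y := rfl

theorem card_pl (P : G3) (X : Subgroup G3) : Nat.card (pl P X) = Nat.card X := by
  rw [← Subgroup.card_map_of_injective (K := pl P X) (f := (MulAut.conj P).toMonoidHom)
    (MulEquiv.injective _), pl, Subgroup.map_comap_eq_self_of_surjective (MulEquiv.surjective _)]

theorem conj_mem_scalars (P g : G3) : P * g * P⁻¹ ∈ S3 ↔ g ∈ S3 :=
  ⟨fun h => by simpa [mul_assoc] using scalars_normal.conj_mem _ h P⁻¹,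
    fun h => scalars_normal.conj_mem _ h P⟩

theorem pl_SL (P : G3) : pl P SL3 = SL3 := by
  ext g
  simp [mem_pl, AL.mem_specialLinear]

theorem pl_pl (P Q : G3) (X : Subgroup G3) : pl P (pl Q X) = pl (Q * P) X := by
  ext g
  simp [mem_pl, mul_assoc]

theorem le_of_pl_eq [Finite F] {M X Z : Subgroup G3} {P Q : G3} (h1 : pl P M = Z)
    (h2 : pl Q X = Z) (h : M ≤ X) : X ≤ M :=
  (Subgroup.eq_of_le_of_card_ge h (by rw [← card_pl Q, ← card_pl P M, h1, h2])).ge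

theorem irr_of_pl (h : Irr (pl P X)) : Irr X := fun W hW => by
  rcases h (W.comap (toLin' (P : M3))) (fun g hg v hv => by
    have := hW _ (mem_pl.1 hg) _ hv
    simpa only [Submodule.mem_comap, toLin'_apply, coe_mul_mulVec, inv_mulVec_mulVec] using this)
    with e | e
  · refine Or.inl (eq_bot_iff.2 fun v hv => ?_)
    have : ((P⁻¹ : G3) : M3) *ᵥ v ∈ W.comap (toLin' (P : M3)) := by
      simpa only [Submodule.mem_comap, toLin'_apply, mulVec_inv_mulVec] using hv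
    rw [e] at this
    exact coe_mulVec_eq_zero _ this
  · refine Or.inr (eq_top_iff.2 fun v _ => ?_)
    have := e.ge (Submodule.mem_top (x := ((P⁻¹ : G3) : M3) *ᵥ v))
    simpa only [Submodule.mem_comap, toLin'_apply, mulVec_inv_mulVec] using this

theorem Irr.not_le {X : Subgroup G3} (h : Irr X) {W : Submodule F (Fin 3 → F)} (h0 : W ≠ ⊥)
    (h1 : W ≠ ⊤) : ¬ X ≤ subspaceStabilizer W := fun hle =>
  (h W fun g hg v hv => ((mem_subspaceStabilizer W g).1 (hle hg) v).1 hv).elim h0 h1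

theorem _root_.Cfsg.Lib.Mit.Pw.pl {s : List ℕ} (h : Pw X s) (P : G3) : Pw (pl P X) s := fun g hg => by
  obtain ⟨k, hk, e⟩ := h _ (mem_pl.1 hg)
  exact ⟨k, hk, by rwa [conj_pow, conj_mem_scalars] at e⟩

theorem _root_.Cfsg.Lib.Mit.NoQ.pl (h : NoQ X) (P : G3) : NoQ (pl P X) := fun a ha b hb h1 h2 => by
  have := h _ (mem_pl.1 ha) _ (mem_pl.1 hb)
    (by rw [← conj_mem_scalars P] at h1; convert h1 using 1; group)
    (by rw [← conj_mem_scalars P] at h2; convert h2 using 1; group)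
  rcases this with e | e | e
  · exact Or.inl ((conj_mem_scalars P _).1 (by convert e using 1; group))
  · exact Or.inr (Or.inl ((conj_mem_scalars P _).1 (by convert e using 1; group)))
  · exact Or.inr (Or.inr ((conj_mem_scalars P _).1 (by convert e using 1; group)))

end Pl

/-- An invertible matrix given with its inverse. -/
def mk2 (A B : M3) (h : A * B = 1) : G3 := ⟨A, B, h, mul_eq_one_comm.1 h⟩

theorem ext3 {A B : M3} (h : A 0 0 = B 0 0 ∧ A 0 1 = B 0 1 ∧ A 0 2 = B 0 2 ∧ A 1 0 = B 1 0 ∧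
    A 1 1 = B 1 1 ∧ A 1 2 = B 1 2 ∧ A 2 0 = B 2 0 ∧ A 2 1 = B 2 1 ∧ A 2 2 = B 2 2) : A = B := by
  obtain ⟨_, _, _, _, _, _, _, _, _⟩ := h
  ext i j
  fin_cases i <;> fin_cases j <;> assumption

/-- Upper unitriangular matrices. -/
def uu (a b c : F) : G3 :=
  mk2 !![1, a, b; 0, 1, c; 0, 0, 1] !![1, -a, a * c - b; 0, 1, -c; 0, 0, 1]
    (ext3 (by simp [Matrix.mul_apply, Fin.sum_univ_three]; ring))

/-- An antidiagonal involution. -/
def ww : G3 :=
  mk2 !![0, 0, 1; 0, -1, 0; 1, 0, 0] !![0, 0, 1; 0, -1, 0; 1, 0, 0]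
    (ext3 (by simp [Matrix.mul_apply, Fin.sum_univ_three]))

/-- A monomial involution. -/
def w2 : G3 :=
  mk2 !![-1, 0, 0; 0, 0, -1; 0, -1, 0] !![-1, 0, 0; 0, 0, -1; 0, -1, 0]
    (ext3 (by simp [Matrix.mul_apply, Fin.sum_univ_three]))

/-- The cyclic permutation matrix. -/
def cy : G3 :=
  mk2 !![0, 0, 1; 1, 0, 0; 0, 1, 0] !![0, 1, 0; 0, 0, 1; 1, 0, 0]
    (ext3 (by simp [Matrix.mul_apply, Fin.sum_univ_three]))

/-- Diagonal matrices. -/
def dg (a b c : Fˣ) : G3 :=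
  mk2 !![(a : F), 0, 0; 0, b, 0; 0, 0, c] !![((a⁻¹ : Fˣ) : F), 0, 0; 0, (b⁻¹ : Fˣ), 0; 0, 0, (c⁻¹ : Fˣ)]
    (ext3 (by simp [Matrix.mul_apply, Fin.sum_univ_three]))

@[simp] theorem coe_uu (a b c : F) : (uu a b c : M3) = !![1, a, b; 0, 1, c; 0, 0, 1] := rfl
@[simp] theorem coe_ww : ((ww : G3) : M3) = !![0, 0, 1; 0, -1, 0; 1, 0, 0] := rfl
@[simp] theorem coe_w2 : ((w2 : G3) : M3) = !![-1, 0, 0; 0, 0, -1; 0, -1, 0] := rfl
@[simp] theorem coe_cy : ((cy : G3) : M3) = !![0, 0, 1; 1, 0, 0; 0, 1, 0] := rfl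
@[simp] theorem coe_dg (a b c : Fˣ) : (dg a b c : M3) = !![(a : F), 0, 0; 0, b, 0; 0, 0, c] := rfl

theorem mv3 (a b c d e f g h i : F) (v : Fin 3 → F) : !![a, b, c; d, e, f; g, h, i] *ᵥ v =
    ![a * v 0 + b * v 1 + c * v 2, d * v 0 + e * v 1 + f * v 2, g * v 0 + h * v 1 + i * v 2] := by
  ext j; fin_cases j <;> simp [mulVec, dotProduct, Fin.sum_univ_three]

theorem gext {g h : G3} (e : (g : M3) = h) : g = h := Units.ext e

/-- Entrywise computation of an identity between explicit elements. -/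
scoped macro "gl3" : tactic =>
  `(tactic| (refine gext (ext3 ?_); simp [Matrix.mul_apply, Fin.sum_univ_three]))

theorem uu_mul (a b c a' b' c' : F) :
    uu a b c * uu a' b' c' = uu (a + a') (b + b' + a * c') (c + c') := by
  gl3; refine ⟨?_, ?_, ?_⟩ <;> ring

theorem uu_zero : uu (0 : F) 0 0 = 1 := by gl3

theorem uu_inv (a b c : F) : (uu a b c)⁻¹ = uu (-a) (a * c - b) (-c) := by
  rw [inv_eq_iff_mul_eq_one, uu_mul, ← uu_zero]; congr 1 <;> ring

theorem uu_inj {a b c a' b' c' : F} (h : uu a b c = uu a' b' c') : a = a' ∧ b = b' ∧ c = c' := by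
  have := congrArg (fun g : G3 => ((g : M3) 0 1, (g : M3) 0 2, (g : M3) 1 2)) h
  simpa using this

theorem uu_pow (a b c : F) (n : ℕ) :
    uu a b c ^ n = uu (n * a) (n * b + n.choose 2 * (a * c)) (n * c) := by
  induction n with
  | zero => simp [uu_zero]
  | succ n ih =>
    rw [pow_succ, ih, uu_mul, Nat.choose_succ_succ' n 1]
    congr 1 <;> push_cast [Nat.choose_one_right] <;> ring

theorem uu_mem_SL (a b c : F) : uu a b c ∈ SL3 := by
  simp [AL.mem_specialLinear', det_fin_three]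

theorem ww_mem_SL : (ww : G3) ∈ SL3 := by simp [AL.mem_specialLinear', det_fin_three]

theorem w2_mem_SL : (w2 : G3) ∈ SL3 := by simp [AL.mem_specialLinear', det_fin_three]

theorem cy_mem_SL : (cy : G3) ∈ SL3 := by simp [AL.mem_specialLinear', det_fin_three]

theorem dg_mem_SL {a b c : Fˣ} (h : a * b * c = 1) : dg a b c ∈ SL3 := by
  simpa [AL.mem_specialLinear', det_fin_three] using congrArg Units.val h

theorem entries_of_mem_scalars {g : G3} (h : g ∈ S3) :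
    (∀ i j, i ≠ j → (g : M3) i j = 0) ∧ (∀ i j, (g : M3) i i = (g : M3) j j) ∧
      ∀ i, (g : M3) i i ≠ 0 := by
  obtain ⟨c, hc⟩ := (mem_scalars_iff g).1 h
  refine ⟨fun i j e => ?_, fun i j => ?_, fun i => ?_⟩ <;> simp [hc, *]

theorem uu_mem_scalars {a b c : F} (h : uu a b c ∈ S3) : a = 0 ∧ b = 0 ∧ c = 0 := by
  have := (entries_of_mem_scalars h).1
  exact ⟨by simpa using this 0 1 (by decide), by simpa using this 0 2 (by decide),
    by simpa using this 1 2 (by decide)⟩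

theorem dg_mul (a b c a' b' c' : Fˣ) :
    dg a b c * dg a' b' c' = dg (a * a') (b * b') (c * c') := by gl3

theorem dg_one : dg (1 : Fˣ) 1 1 = 1 := by gl3

theorem dg_pow (a b c : Fˣ) (n : ℕ) : dg a b c ^ n = dg (a ^ n) (b ^ n) (c ^ n) := by
  induction n with
  | zero => simp [dg_one]
  | succ n ih => rw [pow_succ, ih, dg_mul, pow_succ, pow_succ, pow_succ]

theorem dg_inv (a b c : Fˣ) : (dg a b c)⁻¹ = dg a⁻¹ b⁻¹ c⁻¹ := by
  rw [inv_eq_iff_mul_eq_one, dg_mul]; simp [dg_one]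

theorem dg_mem_scalars {a b c : Fˣ} (h : dg a b c ∈ S3) : a = b ∧ b = c := by
  have := (entries_of_mem_scalars h).2.1
  exact ⟨Units.ext (by simpa using this 0 1), Units.ext (by simpa using this 1 2)⟩

theorem ww_mul_ww : (ww * ww : G3) = 1 := by gl3
theorem w2_mul_w2 : (w2 * w2 : G3) = 1 := by gl3
theorem ww_inv : (ww⁻¹ : G3) = ww := inv_eq_of_mul_eq_one_right ww_mul_ww
theorem w2_inv : (w2⁻¹ : G3) = w2 := inv_eq_of_mul_eq_one_right w2_mul_w2

theorem ww_ne_one : (ww : G3) ≠ 1 := fun h => by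
  simpa using congrArg (fun g : G3 => (g : M3) 0 0) h

theorem w2_not_mem_scalars : (w2 : G3) ∉ S3 := fun h => by
  simpa using (entries_of_mem_scalars h).2.2 1

theorem ww_dg (a b c : Fˣ) : ww * dg a b c * ww⁻¹ = dg c b a := by rw [ww_inv]; gl3
theorem w2_dg (a b c : Fˣ) : w2 * dg a b c * w2⁻¹ = dg a c b := by rw [w2_inv]; gl3

theorem tr_dg (a b c : Fˣ) : tr (dg a b c) = a + b + c := by simp [tr, trace_fin_three]

theorem tr_ww_uu (a b c : F) : tr (ww * uu a b c) = b - 1 := by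
  simp [tr, trace_fin_three, Matrix.mul_apply, Fin.sum_univ_three]; ring

theorem tr_ww_uu_inv (a b c : F) : tr (ww * uu a b c)⁻¹ = a * c - b - 1 := by
  rw [_root_.mul_inv_rev, uu_inv, ww_inv]
  simp [tr, trace_fin_three, Matrix.mul_apply, Fin.sum_univ_three]; ring

section Fin

variable [Fintype F]

theorem uu_pow_card (a b c : F) : (uu a b c ^ Fintype.card F) ^ Fintype.card F = 1 := by
  simp [uu_pow, uu_zero]

/-- A unipotent element lies in every subgroup containing its `q - 1`-st power. -/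
theorem uu_mem_of_pow {Y : Subgroup G3} {a b c : F} (h : uu a b c ^ (Fintype.card F - 1) ∈ Y) :
    uu a b c ∈ Y := by
  have e := uu_pow_card a b c
  obtain ⟨n, hn⟩ : ∃ n, Fintype.card F = n + 1 := ⟨_, (Nat.succ_pred_eq_of_pos Fintype.card_pos).symm⟩
  rw [hn, Nat.add_sub_cancel] at h
  rw [hn, ← pow_mul, show (n + 1) * (n + 1) = n * (n + 2) + 1 by ring, pow_succ, pow_mul] at e
  rw [eq_inv_of_mul_eq_one_right e]
  exact inv_mem (pow_mem h _)

theorem uu_eq_zero_of_pow {a b c : F} (h : uu a b c ^ (Fintype.card F - 1) = 1) :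
    a = 0 ∧ b = 0 ∧ c = 0 :=
  uu_inj ((Subgroup.mem_bot.1 (uu_mem_of_pow (Y := ⊥) h)).trans uu_zero.symm)

end Fin

section Irr

variable {X : Subgroup (GL (Fin 3) F)}

theorem eq_top_of_single {W : Submodule F (Fin 3 → F)} (h0 : ![1, 0, 0] ∈ W) (h1 : ![0, 1, 0] ∈ W)
    (h2 : ![0, 0, 1] ∈ W) : W = ⊤ := eq_top_iff.2 fun v _ => by
  convert add_mem (add_mem (W.smul_mem (v 0) h0) (W.smul_mem (v 1) h1)) (W.smul_mem (v 2) h2)
  ext i; fin_cases i <;> simp

theorem mem_of_smul {W : Submodule F (Fin 3 → F)} {v w : Fin 3 → F} {c : F} (hc : c ≠ 0)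
    (h : w ∈ W) (e : w = c • v) : v ∈ W := (W.smul_mem_iff hc).1 (e ▸ h)

theorem e1_mem_of_uu {W : Submodule F (Fin 3 → F)} {a b c : F} (ha : a ≠ 0) (hc : c ≠ 0)
    (h : ∀ v ∈ W, (uu a b c : M3) *ᵥ v ∈ W) (h0 : W ≠ ⊥) : ![1, 0, 0] ∈ W := by
  obtain ⟨v, hv, hv0⟩ := (Submodule.ne_bot_iff W).1 h0
  have k : ∀ v ∈ W, ![a * v 1 + b * v 2, c * v 2, 0] ∈ W := fun v hv => by
    convert sub_mem (h v hv) hv using 1
    ext i; fin_cases i <;> simp [mulVec, dotProduct, Fin.sum_univ_three]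
    ring
  by_cases h2 : v 2 = 0
  · by_cases h1 : v 1 = 0
    · refine mem_of_smul (c := v 0) (fun h0 => hv0 ?_) hv ?_ <;>
        · ext i; fin_cases i <;> simp [*]
    · refine mem_of_smul (mul_ne_zero ha h1) (k v hv) ?_
      ext i; fin_cases i <;> simp [h2]
  · refine mem_of_smul (mul_ne_zero ha (mul_ne_zero hc h2)) (k _ (k v hv)) ?_
    ext i; fin_cases i <;> simp

theorem irr_of_uu {a b c : F} (ha : a ≠ 0) (hc : c ≠ 0) (hu : uu a b c ∈ X) (hw : ww ∈ X) :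
    Irr X := fun W hW => by
  refine or_iff_not_imp_left.2 fun h0 => ?_
  have h1 := e1_mem_of_uu ha hc (hW _ hu) h0
  have h3 : ![0, 0, 1] ∈ W := by
    convert hW _ hw _ h1 using 1
    ext i; fin_cases i <;> simp [mulVec, dotProduct, Fin.sum_univ_three]
  refine eq_top_of_single h1 (mem_of_smul hc (sub_mem (sub_mem (hW _ hu _ h3) h3)
    (W.smul_mem b h1)) ?_) h3
  rw [coe_uu, mv3]
  ext i; fin_cases i <;> simp

theorem irr_of_dg {a b c : Fˣ} (hab : a ≠ b) (hac : a ≠ c) (hbc : b ≠ c) (hd : dg a b c ∈ X)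
    {g : G3} (hg : g ∈ X) {x y z : F} (e : (g : M3) = !![0, 0, x; y, 0, 0; 0, z, 0])
    (hx : x ≠ 0) (hy : y ≠ 0) (hz : z ≠ 0) : Irr X := fun W hW => by
  refine or_iff_not_imp_left.2 fun h0 => ?_
  obtain ⟨v, hv, hv0⟩ := (Submodule.ne_bot_iff W).1 h0
  have k : ∀ (t : F), ∀ v ∈ W, ![(a - t) * v 0, (b - t) * v 1, (c - t) * v 2] ∈ W := fun t v hv => by
    convert sub_mem (hW _ hd v hv) (W.smul_mem t hv) using 1
    ext i; fin_cases i <;> simp [mulVec, dotProduct, Fin.sum_univ_three] <;> ring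
  have n : ∀ {a b : Fˣ}, a ≠ b → (a : F) - b ≠ 0 := fun h => sub_ne_zero.2 fun e => h (Units.ext e)
  have s0 : ![1, 0, 0] ∈ W → ![0, 1, 0] ∈ W := fun h => mem_of_smul hy (hW _ hg _ h) (by
    rw [e, mv3]; ext i; fin_cases i <;> simp)
  have s1 : ![0, 1, 0] ∈ W → ![0, 0, 1] ∈ W := fun h => mem_of_smul hz (hW _ hg _ h) (by
    rw [e, mv3]; ext i; fin_cases i <;> simp)
  have s2 : ![0, 0, 1] ∈ W → ![1, 0, 0] ∈ W := fun h => mem_of_smul hx (hW _ hg _ h) (by
    rw [e, mv3]; ext i; fin_cases i <;> simp)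
  have h1 : ![1, 0, 0] ∈ W := by
    by_cases h0 : v 0 = 0
    · by_cases h1 : v 1 = 0
      · refine s2 (mem_of_smul (c := v 2) (fun h0 => hv0 ?_) hv ?_) <;>
          · ext i; fin_cases i <;> simp [*]
      · refine s2 (s1 (mem_of_smul (mul_ne_zero (n hbc) h1) (k c v hv) ?_))
        ext i; fin_cases i <;> simp [h0]
    · refine mem_of_smul (mul_ne_zero (n hab) (mul_ne_zero (n hac) h0)) (k b _ (k c v hv)) ?_
      ext i; fin_cases i <;> simp
  exact eq_top_of_single h1 (s0 h1) (s1 (s0 h1))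

end Irr

end Cfsg.Lib.Mit.Mx
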