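import Cfsg.Agent.Mit.MxT
import Cfsg.Agent.Class.HermMax
import Cfsg.Agent.Class.GeoForms
import Cfsg.Agent.Known.QuadNormal

/-!
# Hyperbolic bases in dimension three
-/

set_option autoImplicit false

namespace Cfsg.Lib.Mit.Mx

open Matrix Cfsg.Geo Cfsg.Lib.Class Cfsg.Lib.Class.Asch
open scoped MatrixGroups commutatorElement

variable {F : Type*} [Field F]

local notation "G3" => GL (Fin 3) F
local notation "M3" => Matrix (Fin 3) (Fin 3) F
local notation "S3" => scalars (Fin 3) F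
local notation "SL3" => specialLinear (Fin 3) F

/-- The form with antidiagonal Gram matrix. -/
def fJ (σ : F ≃+* F) (u v : Fin 3 → F) : F := u 0 * σ (v 2) + u 1 * σ (v 1) + u 2 * σ (v 0)

variable {σ : F ≃+* F} {f f' : (Fin 3 → F) → (Fin 3 → F) → F} {P : GL (Fin 3) F}

theorem preSesq_fJ (σ : F ≃+* F) : PreSesq σ (fJ σ) := by
  constructor <;> intros <;> simp [fJ] <;> ring

theorem pl_sim {δ : F} (hδ : δ ≠ 0) (h : ∀ u v, f ((P : M3) *ᵥ u) ((P : M3) *ᵥ v) = δ * f' u v) :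
    pl P (similarityGroup f) = similarityGroup f' := by
  refine Subgroup.ext fun g => exists_congr fun c => ⟨fun k u v => mul_left_cancel₀ hδ ?_,
    fun k u v => ?_⟩
  · have := k ((P : M3) *ᵥ u) ((P : M3) *ᵥ v)
    simp only [MulEquiv.coe_toMonoidHom, MulAut.conj_apply, coe_mul_mulVec, inv_mulVec_mulVec,
      h] at this
    rw [this, mul_left_comm]
  · simp only [MulEquiv.coe_toMonoidHom, MulAut.conj_apply, coe_mul_mulVec]
    rw [h, k, mul_left_comm, ← h, mulVec_inv_mulVec, mulVec_inv_mulVec]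

theorem pl_isoms {δ : F} (hδ : δ ≠ 0) (h : ∀ u v, f ((P : M3) *ᵥ u) ((P : M3) *ᵥ v) = δ * f' u v) :
    pl P (isoms f) = isoms f' := by
  refine Subgroup.ext fun g => ?_
  rw [mem_pl, mem_isoms, mem_isoms]
  refine ⟨fun k u v => mul_left_cancel₀ hδ ?_, fun k u v => ?_⟩
  · simpa only [coe_mul_mulVec, inv_mulVec_mulVec, h] using k ((P : M3) *ᵥ u) ((P : M3) *ᵥ v)
  · simp only [coe_mul_mulVec]
    rw [h, k, ← h, mulVec_inv_mulVec, mulVec_inv_mulVec]

theorem uu_mem_isoms (hσ : ∀ a, σ (σ a) = a) {b c : F} (hb : b + σ b + c * σ c = 0) :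
    uu (-σ c) b c ∈ isoms (fJ σ) := mem_isoms.2 fun u v => by
  simp only [coe_uu, mv3]
  simp [fJ, hσ]
  linear_combination u 2 * σ (v 2) * hb

theorem ww_mem_isoms : ww ∈ isoms (fJ σ) := mem_isoms.2 fun u v => by
  simp only [coe_ww, mv3]
  simp [fJ]
  ring

theorem dg_mem_isoms {x y z : Fˣ} (h1 : x * σ z = 1) (h2 : y * σ y = 1) (h3 : z * σ x = 1) :
    dg x y z ∈ isoms (fJ σ) := mem_isoms.2 fun u v => by
  simp only [coe_dg, mv3]
  simp [fJ]
  linear_combination u 0 * σ (v 2) * h1 + u 1 * σ (v 1) * h2 + u 2 * σ (v 0) * h3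

theorem exists_tr (hσ : ∀ a, σ (σ a) = a) (h : σ ≠ RingEquiv.refl F ∨ (2 : F) ≠ 0) {n : F}
    (hn : σ n = n) : ∃ s, s + σ s = n := by
  by_cases e : σ = RingEquiv.refl F
  · subst e
    have h2 := h.resolve_left (by simp)
    exact ⟨n / 2, by simp only [RingEquiv.refl_apply]; field_simp; ring⟩
  · exact Form.exists_trace_eq (σ := (σ : F →+* F))
      (fun k => e (RingEquiv.ext fun a => RingHom.congr_fun k a)) hσ hn

theorem exists_hyp_of (hf : IsSesq σ 1 f) (h : σ ≠ RingEquiv.refl F ∨ (2 : F) ≠ 0)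
    {e d : Fin 3 → F} (he : e ≠ 0) (hee : f e e = 0) (hed : f e d = 0) (hd : f d d ≠ 0) :
    ∃ R : G3, (R : M3) *ᵥ ![1, 0, 0] = f d d • e ∧ (R : M3) *ᵥ ![0, 1, 0] = d ∧
      ∀ u v, f ((R : M3) *ᵥ u) ((R : M3) *ᵥ v) = f d d * fJ σ u v := by
  have p := hf.pre
  have s : ∀ u v, f v u = σ (f u v) := fun u v => by rw [hf.symm, one_mul]
  obtain ⟨x, hx, hxd⟩ : ∃ x, f e x = 1 ∧ f x d = 0 := by
    obtain ⟨x, hx⟩ := not_forall.1 fun k => he (hf.nondeg' e k)
    refine ⟨(σ (f e x))⁻¹ • (x - (f x d / f d d) • d), ?_, ?_⟩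
    · simp [p.smul_right, p.sub_right, hed, hf.invol, hx]
    · simp [p.smul_left, p.sub_left, hd]
  obtain ⟨t, ht⟩ := exists_tr hf.invol h (s x x).symm
  obtain ⟨m, h1, h2, h3⟩ : ∃ m, f e m = 1 ∧ f m d = 0 ∧ f m m = 0 := by
    refine ⟨x - t • e, ?_, ?_, ?_⟩ <;>
      simp [p.smul_right, p.sub_right, p.smul_left, p.sub_left, s e x, hx, hee, hxd, hed]
    linear_combination -ht
  have h4 : f m e = 1 := by rw [s, h1, map_one]
  have h5 : f d m = 0 := by rw [s, h2, map_zero]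
  have h6 : f d e = 0 := by rw [s, hed, map_zero]
  obtain ⟨R, hR, -⟩ := exists_frame (a := f d d • e) (b := d) (m := m) fun x y z k => by
    have k1 := congrArg (f · m) k
    have k2 := congrArg (f · d) k
    have k3 := congrArg (f · e) k
    simp only [p.add_left, p.smul_left, p.zero_left, h1, h2, h3, h4, h5, h6, hee, hed] at k1 k2 k3
    exact ⟨by simpa [hd] using k1, by simpa [hd] using k2, by simpa using k3⟩
  refine ⟨R, by simp [hR], by simp [hR], fun u v => ?_⟩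
  rw [vec3_eta u, vec3_eta v, hR, hR]
  simp only [p.add_left, p.smul_left, p.add_right, p.smul_right, ← s d d, fJ, h1, h2, h3, h4, h5,
    h6, hee, hed]
  simp
  ring

theorem exists_aniso (hf : IsSesq σ 1 f) {e : Fin 3 → F} (he : e ≠ 0) (hee : f e e = 0) :
    ∃ d, f e d = 0 ∧ f d d ≠ 0 := by
  have p := hf.pre
  obtain ⟨x, hx⟩ := not_forall.1 fun k => he (hf.nondeg' e k)
  obtain ⟨d, hd, h1, h2⟩ := exists_ker_two (gramMatrix f *ᵥ (σ ∘ e)) (gramMatrix f *ᵥ (σ ∘ x))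
  rw [dotProduct_comm, ← p.eq_dot] at h1 h2
  have h3 := hf.eq_zero_comm.1 h1
  have h4 := hf.eq_zero_comm.1 h2
  refine ⟨d, h3, fun h0 => hd (hf.nondeg d fun y => ?_)⟩
  obtain ⟨R, hR, -⟩ := exists_frame (a := e) (b := x) (m := d) fun a b c k => by
    have k1 := congrArg (f e) k
    have k2 := congrArg (f · x) k
    simp only [p.add_left, p.smul_left, p.zero_left, p.add_right, p.smul_right, p.zero_right,
      h0, h1, h2, h3, h4, hee] at k1 k2
    obtain rfl : b = 0 := by simpa [hx] using k1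
    obtain rfl : a = 0 := by simpa [hx] using k2
    simpa [hd] using k
  rw [← mulVec_inv_mulVec R y, vec3_eta (_ *ᵥ y), hR]
  simp [p.add_left, p.smul_left, *]

variable [Finite F]

theorem exists_iso_mem (hf : IsSesq σ 1 f) (hσ : σ ≠ RingEquiv.refl F)
    {T : Submodule F (Fin 3 → F)} (hT : 2 ≤ Module.finrank F T) : ∃ z ∈ T, z ≠ 0 ∧ f z z = 0 := by
  let B : (Fin 3 → F) →ₛₗ[(σ : F →+* F)] (Fin 3 → F) →ₗ[F] F :=
    LinearMap.mk₂'ₛₗ (σ : F →+* F) (RingHom.id F) (fun u v => f v u)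
      (fun a b c => hf.pre.add_right _ _ _) (fun c a b => hf.pre.smul_right _ _ _)
      (fun a b c => hf.add_left _ _ _) (fun c a b => hf.smul_left _ _ _)
  exact (Form.herm_of_isSymm (B := B) (fun h => hσ (RingEquiv.ext fun a => RingHom.congr_fun h a))
    hf.invol ⟨fun u v => ((hf.symm _ _).trans (one_mul _)).symm⟩
    hf.nondeg).exists_isotropic_of_two_le hT

theorem exists_iso (hf : IsSesq σ 1 f) (h : σ ≠ RingEquiv.refl F ∨ (2 : F) ≠ 0) :
    ∃ z, z ≠ 0 ∧ f z z = 0 := by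
  by_cases e : σ = RingEquiv.refl F
  · subst e
    exact Known.exists_isotropic_of_three_le
      (geoQuad (hf.isNondegenerateQuadraticForm_self (h.resolve_left (by simp)))) (by simp)
  · obtain ⟨z, -, hz⟩ := exists_iso_mem hf e (T := ⊤) (by simp)
    exact ⟨z, hz⟩

theorem exists_hyp (hf : IsSesq σ 1 f) (h : σ ≠ RingEquiv.refl F ∨ (2 : F) ≠ 0) :
    ∃ (R : G3) (δ : F), δ ≠ 0 ∧ ∀ u v, f ((R : M3) *ᵥ u) ((R : M3) *ᵥ v) = δ * fJ σ u v := by
  obtain ⟨e, he, hee⟩ := exists_iso hf h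
  obtain ⟨d, h1, h2⟩ := exists_aniso hf he hee
  obtain ⟨R, -, -, hR⟩ := exists_hyp_of hf h he hee h1 h2
  exact ⟨R, _, h2, hR⟩

/-- The restriction of an automorphism to a subfield. -/
noncomputable def res (σ : F ≃+* F) (F₀ : Subfield F) : F₀ ≃+* F₀ :=
  RingEquiv.ofBijective ((σ : F →+* F).restrict F₀ F₀ fun _ => map_mem_subfield σ F₀)
    (Finite.injective_iff_bijective.1 (RingHom.injective _))

theorem coe_res (σ : F ≃+* F) (F₀ : Subfield F) (x : F₀) : (res σ F₀ x : F) = σ x := rfl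

theorem exists_hyp_rat (hf : IsSesq σ 1 f) {F₀ : Subfield F}
    (h : (∃ x ∈ F₀, σ x ≠ x) ∨ (2 : F) ≠ 0) (hP : IsFormRationalStructure f F₀ 1 P) :
    ∃ R ∈ Rt F₀, ∃ δ : F, δ ≠ 0 ∧
      ∀ u v, f (((P * R : G3) : M3) *ᵥ u) (((P * R : G3) : M3) *ᵥ v) = δ * fJ σ u v := by
  have hg := hf.comp P
  let g : (Fin 3 → F₀) → (Fin 3 → F₀) → F₀ := fun u v =>
    ⟨f ((P : M3) *ᵥ fun i => u i) ((P : M3) *ᵥ fun i => v i), by
      simpa using hP _ _ (fun i => (u i).2) fun i => (v i).2⟩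
  have hg' : IsSesq (res σ F₀) 1 g :=
    { invol := fun a => Subtype.ext (hf.invol a)
      eps := by simp
      add_left := fun x y v => Subtype.ext (hg.add_left (fun i => x i) (fun i => y i) _)
      smul_left := fun c x v => Subtype.ext (hg.smul_left c (fun i => x i) _)
      symm := fun u v => Subtype.ext (hg.symm _ _)
      nondeg := fun v hv => by
        have := hg.nondeg (fun i => v i) fun x => by
          have k : ∀ i, f ((P : M3) *ᵥ Pi.single i 1) ((P : M3) *ᵥ fun i => v i) = 0 := fun i => by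
            refine Eq.trans ?_ (congrArg Subtype.val (hv (Pi.single i 1)))
            congr 2
            ext j
            by_cases e : j = i <;> simp [e]
          rw [← Finset.univ_sum_single x, hg.pre.sum_left]
          refine Finset.sum_eq_zero fun i _ => ?_
          rw [show (Pi.single i (x i) : Fin 3 → F) = x i • Pi.single i 1 by
            rw [← Pi.single_smul, smul_eq_mul, mul_one], hg.smul_left, k, mul_zero]
        exact funext fun i => Subtype.ext (congrFun this i) }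
  obtain ⟨R, δ, hδ, hR⟩ := exists_hyp hg' (h.imp
    (fun ⟨x, hx, e⟩ k => e (congrArg Subtype.val (RingEquiv.congr_fun k ⟨x, hx⟩)))
    fun h k => h (congrArg Subtype.val k))
  refine ⟨_, ⟨R, rfl⟩, δ, by simpa using hδ, PreSesq.ext_single (hf.comp _).pre
    ((preSesq_fJ σ).smul δ) fun a b => ?_⟩
  have k : ∀ a, ((P * GeneralLinearGroup.map F₀.subtype R : G3) : M3) *ᵥ Pi.single a 1 =
      (P : M3) *ᵥ fun i => ((R.1 *ᵥ Pi.single a 1) i : F₀) := fun a => by
    rw [coe_mul_mulVec]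
    congr 1
    ext i
    simp
  rw [k, k]
  refine (congrArg Subtype.val (hR (Pi.single a 1) (Pi.single b 1))).trans ?_
  fin_cases a <;> fin_cases b <;> simp [fJ]

end Cfsg.Lib.Mit.Mx
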