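import Cfsg.Agent.Mit.MxE
import Cfsg.Agent.Mit.MxF

/-!
# Witnesses for non-containments between subgroups of `GL₃`
-/

set_option autoImplicit false

namespace Cfsg.Lib.Mit.Mx

open Matrix Cfsg.Geo Cfsg.Lib.Class Cfsg.Lib.Class.Asch
open scoped MatrixGroups commutatorElement

variable {F : Type*} [Field F] {X : Subgroup (GL (Fin 3) F)}

local notation "G3" => GL (Fin 3) F
local notation "M3" => Matrix (Fin 3) (Fin 3) F
local notation "S3" => scalars (Fin 3) F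
local notation "SL3" => specialLinear (Fin 3) F
local notation "sc" => scalarGL (Fin 3)

theorem isMaximalIn_pl {G M : Subgroup G3} (h : IsMaximalIn G M) (P : G3) :
    IsMaximalIn (pl P G) (pl P M) := by
  have k : ∀ X : Subgroup G3, pl P (pl P⁻¹ X) = X := fun X => by
    simpa using pl_inv_pl P⁻¹ X
  refine ⟨lt_of_le_of_ne (pl_mono h.1.le) fun e => h.1.ne ?_, fun Y h1 h2 => ?_⟩
  · rw [← pl_inv_pl P M, e, pl_inv_pl]
  · exact (h.2 (pl P⁻¹ Y) (pl_inv_pl P M ▸ pl_mono h1) (pl_inv_pl P G ▸ pl_mono h2)).imp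
      (fun e => by rw [← e, k]) fun e => by rw [← e, k]

/-- Reduction to a normal form. -/
theorem isMaximalIn_of_pl [Finite F] {G M G' M' : Subgroup G3} (P : G3) (e1 : pl P G = G')
    (e2 : pl P M = M') (h1 : ¬ G ≤ M)
    (h : ∀ X, IsMaximalIn G' X → M' ⊓ G' ≤ X → X ≤ M') : IsMaximalIn G (M ⊓ G) :=
  isMaximalIn_of h1 fun X hX hle => by
    subst e1 e2
    simpa only [pl_inv_pl] using pl_mono (P := P⁻¹) (h _ (isMaximalIn_pl hX P) (pl_mono hle))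

/-- Properties of the residual subgroups in large characteristic. -/
def Lg (X : Subgroup G3) : Prop :=
  NoQ X ∧ ∃ s, Pw X s ∧ ∀ k ∈ s, 0 < k ∧ k ≤ 7 ∧ (k : F) ≠ 0

theorem Lg.pl (h : Lg X) (P : G3) : Lg (pl P X) :=
  ⟨h.1.pl P, h.2.imp fun _ h => ⟨h.1.pl P, h.2⟩⟩

theorem Lg.not_uu (h : Lg X) {a b : F} : uu a b 1 ∉ X := fun hu => by
  obtain ⟨-, s, h1, h2⟩ := h
  obtain ⟨k, hk, e⟩ := h1 _ hu
  rw [uu_pow] at e
  exact (h2 k hk).2.2 (by simpa using (uu_mem_scalars e).2.2)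

theorem Lg.orderOf_le (h : Lg X) {g : G3} (hg : g ∈ X) (hg' : g ∈ SL3) : orderOf g ≤ 21 := by
  obtain ⟨-, s, h1, h2⟩ := h
  obtain ⟨k, hk, e⟩ := h1 _ hg
  have := h2 k hk
  exact (orderOf_le_of_pow_eq_one (by omega)
    ((pow_mul g k 3).trans (cube_of_mem_scalars (pow_mem hg' k) e))).trans (by omega)

theorem lg_of {p : ℕ} [CharP F p] {s : List ℕ} (h : Pw X s ∧ NoQ X)
    (hs : ∀ k ∈ s, 0 < k ∧ k ≤ 7 ∧ k < p) : Lg X :=
  ⟨h.2, s, h.1, fun k hk => ⟨(hs k hk).1, (hs k hk).2.1, fun e =>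
    (Nat.le_of_dvd (hs k hk).1 ((CharP.cast_eq_zero_iff F p k).1 e)).not_gt (hs k hk).2.2⟩⟩

theorem cast_ne_zero {p : ℕ} [CharP F p] {k : ℕ} [k.AtLeastTwo] (hp : p.Prime) (hk : k.Prime)
    (h : p ≠ k) : (OfNat.ofNat k : F) ≠ 0 := fun e =>
  h ((Nat.prime_dvd_prime_iff_eq hp hk).1 ((CharP.cast_eq_zero_iff F p k).1 e))

/-- A monomial group with diagonal entries in `A`. -/
structure MD (A : Subgroup Fˣ) (X : Subgroup G3) : Prop where
  w : ww ∈ X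
  w' : w2 ∈ X
  d : ∀ x ∈ A, dg x 1 x⁻¹ ∈ X
  d' : ∀ x ∈ A, dg 1 x x⁻¹ ∈ X

theorem ne_of_orderOf {x : Fˣ} (hx : 3 ≤ orderOf x) : x ≠ 1 ∧ x ≠ -1 ∧ x ≠ x⁻¹ := by
  have h : x ^ 2 ≠ 1 := fun e => by have := orderOf_le_of_pow_eq_one two_pos e; omega
  refine ⟨?_, ?_, fun e => h (by rw [sq]; nth_rw 1 [e]; simp)⟩ <;> rintro rfl <;> simp at h

namespace MD

variable {A : Subgroup Fˣ} {x : Fˣ}

theorem irr (h : MD A X) (hx : x ∈ A) (ho : 3 ≤ orderOf x) : Irr X :=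
  irr_of_dg (ne_of_orderOf ho).1 (ne_of_orderOf ho).2.2 (by simpa using (ne_of_orderOf ho).1)
    (h.d x hx) (mul_mem h.w' h.w) (x := -1) (y := -1) (z := 1)
    (ext3 (by simp [Matrix.mul_apply, Fin.sum_univ_three])) (by simp) (by simp) (by simp)

theorem lg (h : MD A X) (hx : x ∈ A) (hX : Lg X) : orderOf x ≤ 7 := by
  obtain ⟨-, s, h1, h2⟩ := hX
  obtain ⟨k, hk, e⟩ := h1 _ (h.d x hx)
  rw [dg_pow, one_pow] at e
  exact (orderOf_le_of_pow_eq_one (h2 k hk).1 (dg_mem_scalars e).1).trans (h2 k hk).2.1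

theorem not_pw (h : MD A X) (hx : x ∈ A) (e : (x : F) ^ 2 = -1) (h2 : (2 : F) ≠ 0) :
    ¬ Pw X [3, 4, 7] := fun hX => by
  obtain ⟨k, hk, hs⟩ := hX _ (mul_mem h.w (h.d' x hx))
  have e2 : (ww * dg 1 x x⁻¹) ^ 2 = dg x⁻¹ (x ^ 2) x⁻¹ := by rw [sq, sq]; gl3
  have k1 : ∀ m, (ww * dg 1 x x⁻¹) ^ (2 * m + 1) ∉ S3 := fun m hm => by
    rw [pow_succ, pow_mul, e2, dg_pow] at hm
    simpa [Matrix.mul_apply, Fin.sum_univ_three] using (entries_of_mem_scalars hm).2.2 0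
  simp only [List.mem_cons, List.not_mem_nil, or_false] at hk
  rcases hk with rfl | rfl | rfl
  · exact k1 1 hs
  · rw [show 4 = 2 * 2 from rfl, pow_mul, e2, dg_pow] at hs
    have := congrArg Units.val (dg_mem_scalars hs).1
    simp [e] at this
    exact h2 (by linear_combination -this)
  · exact k1 3 hs

variable [Fintype F] {T : F → F → Prop}

theorem sub (h : MD A X) (hx : x ∈ A) (hT : PT X T) {F₁ : Subfield F} (e : ∀ a b, T a b → a ∈ F₁) :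
    orderOf x ≤ 2 * Nat.card F₁ :=
  orderOf_le_two_mul fun k => e _ _ (hT.d1 h.w (h.d _ (pow_mem hx k)))

theorem sub' (h : MD A X) (hx : x ∈ A) {σ : F ≃+* F} (hT : PT X fun a b => b = σ a) :
    orderOf x ≤ 2 * Nat.card (fixedSubfield σ) :=
  orderOf_le_two_mul fun k => (hT.d1 h.w (h.d _ (pow_mem hx k))).symm

theorem orth (h : MD A X) (hx : x ∈ A) (ho : 3 ≤ orderOf x) (hT : PT X T)
    (e : ∀ a b, T a b → a = b) : False :=
  (hT.d2 e h.w h.w' (h.d x hx) (h.d' x hx)).elim (ne_of_orderOf ho).1 (ne_of_orderOf ho).2.1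

end MD

/-- Generators of the Hessian group. -/
structure ME (ω : Fˣ) (X : Subgroup G3) : Prop where
  c : cy ∈ X
  z : zz ω ∈ X
  ph : ∀ (g : G3) (t : F), t * (ω - ω ^ 2) = 1 →
    (g : M3) = !![t, t, t; t, t * ω, t * ω ^ 2; t, t * ω ^ 2, t * ω] → g ∈ SL3 →
    g * cy * g⁻¹ = zz ω → g * zz ω * g⁻¹ = cy⁻¹ → g ∈ X ∧ dg 1 ω ω * g * (dg 1 ω ω)⁻¹ ∈ X

namespace ME

variable {ω : Fˣ}

theorem irr (h : ME ω X) (hω : Cube ω) : Irr X :=
  irr_of_dg hω.ne_one.symm (fun e => hω.sq_ne_one' (by simpa using sub_eq_zero.2 (congrArg Units.val e).symm))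
    (fun e => hω.sub_ne (by simpa using sub_eq_zero.2 (congrArg Units.val e))) h.z h.c coe_cy
    one_ne_zero one_ne_zero one_ne_zero

theorem not_noInv (h : ME ω X) (hω : Cube ω) : ¬ NoInv X := fun hX => by
  obtain ⟨g, t, h1, h2, h3, h4, h5, h6⟩ := hω.exists_ph
  have := (h.ph g t h1 h2 h4 h5 h6).1
  exact w2_not_mem_scalars (hX _ (h3 ▸ mul_mem this this) w2_mul_w2 ▸ one_mem _)

theorem not_noQ (h : ME ω X) (hω : Cube ω) : ¬ NoQ X := fun hX => by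
  obtain ⟨g, t, h1, h2, h3, h4, h5, h6⟩ := hω.exists_ph
  obtain ⟨k1, k2⟩ := h.ph g t h1 h2 h4 h5 h6
  have ht : t ≠ 0 := left_ne_zero_of_mul_eq_one h1
  have e : dg 1 ω ω * w2 * (dg 1 ω ω)⁻¹ = w2 := mul_inv_eq_iff_eq_mul.2 (by gl3)
  have e' : g⁻¹ = g * w2 := by rw [inv_eq_iff_mul_eq_one, ← mul_assoc, h3, w2_mul_w2]
  rcases hX _ k1 _ k2 (by rw [conj_mul, h3, e, inv_mul_cancel]; exact one_mem _)
    (by rw [h3, w2_mul_w2]; exact one_mem _) with k | k | k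
  · exact w2_not_mem_scalars (h3 ▸ k)
  · obtain ⟨c, hc⟩ := k
    have hc : dg 1 ω ω * g = g * sc c * dg 1 ω ω :=
      mul_inv_eq_iff_eq_mul.1 (eq_inv_mul_iff_mul_eq.1 hc).symm
    have a := congrArg (fun g : G3 => ((g : M3) 0 0, (g : M3) 0 1)) hc
    simp [h2, Matrix.mul_apply, Fin.sum_univ_three, ht] at a
    obtain ⟨rfl, a⟩ := a
    exact hω.ne_one (by simpa [ht] using a)
  · obtain ⟨c, hc⟩ := k
    rw [conj_inv, eq_inv_mul_iff_mul_eq, eq_mul_inv_iff_mul_eq, e'] at hc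
    have hc : g * sc c * dg 1 ω ω = dg 1 ω ω * (g * w2) := hc
    have a := congrArg (fun g : G3 => ((g : M3) 0 0, (g : M3) 0 1)) hc
    simp [h2, Matrix.mul_apply, Fin.sum_univ_three, ht] at a
    clear * - a ht hω
    exact hω.ne_one' (by grind)

variable [Fintype F]

theorem not_pD (h : ME ω X) (hω : Cube ω) : ¬ PD X := fun hX => by
  obtain ⟨g, t, h1, h2, h3, h4, h5, h6⟩ := hω.exists_ph
  have k := (h.ph g t h1 h2 h4 h5 h6).1
  have e : g ^ 6 = w2 := by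
    rw [show g ^ 6 = g * g * (g * g) * (g * g) by simp [pow_succ, mul_assoc], h3, w2_mul_w2,
      one_mul]
  have := hX.d6 _ k _ (mul_mem (mul_mem h.c k) (inv_mem h.c))
  rw [conj_pow, e, show (cy : G3)⁻¹ = cy * cy from inv_eq_of_mul_eq_one_right (by gl3)] at this
  simpa [Matrix.mul_apply, Fin.sum_univ_three] using congrArg (fun g : G3 => (g : M3) 0 1) this

theorem orth (h : ME ω X) (hω : Cube ω) {T : F → F → Prop} (hT : PT X T)
    (e : ∀ a b, T a b → a = b) : False := by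
  have := e _ _ (hT.comm h.z h.c)
  rw [hω.cm_zz_cy, show sc ω * (cy * zz ω) * (zz ω)⁻¹ * cy⁻¹ = sc ω by group, ← map_inv] at this
  simp only [tr, coe_scalarGL, trace_smul, trace_one, smul_eq_mul] at this
  have e := mul_right_cancel₀ (by simpa using hω.three) this
  refine hω.sq_ne_one' ?_
  rw [sq]
  nth_rw 1 [e]
  simp

end ME

theorem Cube.mE [Finite F] {ω : Fˣ} (hω : Cube ω) {G : Subgroup G3} (h1 : cy ∈ G) (h2 : zz ω ∈ G)
    (h3 : ∀ (g : G3) (t : F), t * (ω - ω ^ 2) = 1 →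
      (g : M3) = !![t, t, t; t, t * ω, t * ω ^ 2; t, t * ω ^ 2, t * ω] → g ∈ SL3 →
      g ∈ G ∧ dg 1 ω ω * g * (dg 1 ω ω)⁻¹ ∈ G)
    (hX : Subgroup.normalizer (Hs ω : Set G3) ⊓ G ≤ X) : ME ω X := by
  refine ⟨hX ⟨Subgroup.le_normalizer hω.cy_mem, h1⟩, hX ⟨Subgroup.le_normalizer hω.zz_mem, h2⟩,
    fun g t e1 e2 e3 e4 e5 => ?_⟩
  have := hω.mem_normalizer (e4 ▸ hω.zz_mem) (e5 ▸ inv_mem hω.cy_mem)
  exact ⟨hX ⟨this, (h3 g t e1 e2 e3).1⟩, hX ⟨Subgroup.mul_mem _ (mul_mem hω.dg_mem_normalizer this)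
    (inv_mem hω.dg_mem_normalizer), (h3 g t e1 e2 e3).2⟩⟩

theorem exists_cube {R : Subgroup G3} (hR : Cl2 3 R) : ∃ ω : Fˣ, Cube ω := by
  obtain ⟨c, h1, h2, -⟩ := hR.exists_root
  refine ⟨c, mul_left_cancel₀ (sub_ne_zero.2 fun h => h1 (Units.ext h) : (c : F) - 1 ≠ 0) ?_,
    by simpa using hR.natCast_card_ne_zero⟩
  have : (c : F) ^ 3 = 1 := by simpa using congrArg Units.val h2
  linear_combination this

/-- Generators of a unitary or orthogonal group over a subfield. -/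
structure MU (σ : F ≃+* F) (F₀ : Subfield F) (X : Subgroup G3) : Prop where
  invol : ∀ a, σ (σ a) = a
  ne : (∃ x ∈ F₀, σ x ≠ x) ∨ (2 : F) ≠ 0
  w : ww ∈ X
  u : ∀ b ∈ F₀, ∀ c ∈ F₀, b + σ b + c * σ c = 0 → uu (-σ c) b c ∈ X

section Res

variable [Finite F] {σ : F ≃+* F} {F₀ : Subfield F}

theorem res_ne (h : ∃ x ∈ F₀, σ x ≠ x) : (res σ F₀ : F₀ →+* F₀) ≠ RingHom.id F₀ := fun k =>
  h.elim fun x hx => hx.2 (congrArg Subtype.val (RingHom.congr_fun k ⟨x, hx.1⟩))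

theorem exists_norm_mem (hσ : ∀ a, σ (σ a) = a) (h : ∃ x ∈ F₀, σ x ≠ x) {b : F} (hb : b ∈ F₀) :
    ∃ c ∈ F₀, b + σ b + c * σ c = 0 := by
  obtain ⟨c, hc⟩ := Form.exists_norm_eq (res_ne h) (fun a => Subtype.ext (hσ a))
    (μ := -(⟨b, hb⟩ + res σ F₀ ⟨b, hb⟩)) (Subtype.ext (by simp [coe_res, hσ, add_comm]))
  refine ⟨c, c.2, ?_⟩
  have : σ c * c = -(b + σ b) := congrArg Subtype.val hc
  linear_combination this

theorem exists_trz_mem (hσ : ∀ a, σ (σ a) = a) (h : ∃ x ∈ F₀, σ x ≠ x) :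
    ∃ b ∈ F₀, b ≠ 0 ∧ b + σ b = 0 := by
  obtain ⟨x, hx, e⟩ := h
  exact ⟨x - σ x, sub_mem hx (map_mem_subfield σ F₀ hx), sub_ne_zero.2 e.symm, by simp [hσ]⟩

theorem MU.exists_uu (h : MU σ F₀ X) {c : F} (hc : c ∈ F₀) :
    ∃ b ∈ F₀, b + σ b + c * σ c = 0 ∧ uu (-σ c) b c ∈ X := by
  obtain ⟨b, hb⟩ := exists_tr (σ := res σ F₀) (fun a => Subtype.ext (h.invol a)) (h.ne.imp
    (fun k e => res_ne k (by rw [e]; rfl)) fun h k => h (congrArg Subtype.val k))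
    (n := -(⟨c, hc⟩ * res σ F₀ ⟨c, hc⟩)) (Subtype.ext (by simp [coe_res, h.invol, mul_comm]))
  have : b + σ b = -(c * σ c) := congrArg Subtype.val hb
  have e : b + σ b + c * σ c = 0 := by linear_combination this
  exact ⟨b, b.2, e, h.u _ b.2 _ hc e⟩

theorem MU.irr (h : MU σ F₀ X) : Irr X := by
  obtain ⟨b, -, -, hu⟩ := h.exists_uu (one_mem _)
  exact irr_of_uu (by simp) one_ne_zero hu h.w

theorem MU.not_lg (h : MU σ F₀ X) : ¬ Lg X := fun hX => by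
  obtain ⟨b, -, -, hu⟩ := h.exists_uu (one_mem _)
  exact hX.not_uu hu

end Res

theorem exists_ne_of_card {F₀ : Subfield F} [Finite F] (h : 4 ≤ Nat.card F₀) :
    ∃ x ∈ F₀, x ≠ 0 ∧ x ≠ 1 ∧ x ≠ -1 := by
  have := Fintype.ofFinite F₀
  obtain ⟨l, h0, h1⟩ := AL.exists_sq_ne_one (F := F₀) (by rwa [← Nat.card_eq_fintype_card])
  refine ⟨l, l.2, by simpa using h0, fun e => h1 (Subtype.ext ?_), fun e => h1 (Subtype.ext ?_)⟩ <;>
    simp [e]

namespace MU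

variable [Fintype F] {σ : F ≃+* F} {F₀ : Subfield F}

theorem not_pD (h : MU σ F₀ X) (h4 : (∃ x ∈ F₀, σ x ≠ x) ∨ 4 ≤ Nat.card F₀) : ¬ PD X := fun hX => by
  obtain ⟨b, -, -, hu⟩ := h.exists_uu (one_mem _)
  by_cases k : ∃ x ∈ F₀, σ x ≠ x
  · obtain ⟨d, h1, h2, h3⟩ := exists_trz_mem h.invol k
    simpa [h2] using hX.not_uu hu (h.u d h1 0 (zero_mem _) (by simpa using h3)) (by simp)
  · obtain ⟨x, h1, h2, h3, h5⟩ := exists_ne_of_card (h4.resolve_left k)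
    obtain ⟨d, -, -, hu'⟩ := h.exists_uu h1
    push Not at k
    rcases hX.not_uu hu hu' (by simp [k x h1]) with e | e | e | e
    · exact one_ne_zero e.2.2
    · exact h2 e.2.2
    · exact h5 (by linear_combination e.2.2)
    · exact h3 e.2.2.symm

theorem le (h : MU σ F₀ X) {F₁ : Subfield F}
    (e : ∀ b c, b + σ b + c * σ c = 0 → uu (-σ c) b c ∈ X → b - 1 ∈ F₁) : F₀ ≤ F₁ := fun x hx => by
  by_cases k : ∃ x ∈ F₀, σ x ≠ x
  · obtain ⟨c, h1, h2⟩ := exists_norm_mem h.invol k hx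
    simpa using add_mem (e _ _ h2 (h.u _ hx _ h1 h2)) (one_mem F₁)
  · have h2 := h.ne.resolve_left k
    push Not at k
    have s : ∀ c ∈ F₀, c * c ∈ F₁ := fun c hc => by
      obtain ⟨b, h1, h3, h4⟩ := h.exists_uu hc
      have := add_mem (e _ _ h3 h4) (one_mem F₁)
      convert neg_mem (add_mem this this) using 1
      rw [k b h1, k c hc] at h3
      linear_combination h3
    convert div_mem (sub_mem (sub_mem (s _ (add_mem hx (one_mem _))) (s _ hx)) (one_mem F₁))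
      (ofNat_mem F₁ 2) using 1
    field_simp
    ring

theorem sub (h : MU σ F₀ X) {T : F → F → Prop} (hT : PT X T) {F₁ : Subfield F}
    (e : ∀ a b, T a b → a ∈ F₁) : F₀ ≤ F₁ := h.le fun _ _ _ hu => e _ _ (hT.ww_uu h.w hu)

theorem eq (h : MU σ F₀ X) {τ : F ≃+* F} (hT : PT X fun a b => b = τ a) {b c : F}
    (e : b + σ b + c * σ c = 0) (hu : uu (-σ c) b c ∈ X) : τ (b - 1) = σ (b - 1) := by
  rw [← hT.ww_uu h.w hu, map_sub, map_one]
  linear_combination -e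

end MU

section Singer

variable [Fintype F] {K : Subalgebra F (Matrix (Fin 3) (Fin 3) F)} {s : GL (Fin 3) F}

theorem cube_not_scalar (hs : s ∈ SL3) (h : 9 < orderOf s ∨ orderOf s = 7) : s ^ 3 ∉ S3 := fun e => by
  have := orderOf_dvd_of_pow_eq_one ((pow_mul s 3 3).trans (cube_of_mem_scalars (pow_mem hs 3) e))
  rcases h with h | h
  · exact (Nat.le_of_dvd (by norm_num) this).not_gt h
  · rw [h] at this; omega

theorem field_le (hK : IsFieldSubalgebra 3 K) (h1 : (s : M3) ∈ K) (h2 : s ^ 3 ∉ S3)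
    {K' : Subalgebra F M3} (hK' : IsFieldSubalgebra 3 K') (h : s ∈ subalgebraNormalizer K') :
    K' = K :=
  field_eq hK' hK (cube_mem hK' h) (Units.val_pow_eq_pow_val s 3 ▸ pow_mem h1 3) h2

theorem field_orth (hK : IsFieldSubalgebra 3 K) (h1 : (s : M3) ∈ K) (hs : s ∈ SL3) (h2 : s ^ 3 ∉ S3)
    (hX : s ∈ X) {T : F → F → Prop} (hT : PT X T) (e : ∀ a b, T a b → a = b) : False := by
  have := e _ _ (hT.cube hX 1)
  rw [pow_one] at this
  exact h2 (one_of_tr_eq hK (Units.val_pow_eq_pow_val s 3 ▸ pow_mem h1 3) (pow_mem hs 3) this ▸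
    one_mem _)

end Singer

end Cfsg.Lib.Mit.Mx
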