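import Cfsg.Agent.Mit.MxT

/-!
# The Hessian group
-/

set_option autoImplicit false

namespace Cfsg.Lib.Mit.Mx

open Matrix Cfsg.Geo Cfsg.Lib.Class Cfsg.Lib.Class.Asch
open scoped MatrixGroups commutatorElement

variable {F : Type*} [Field F]

local notation "G3" => GL (Fin 3) F
local notation "M3" => Matrix (Fin 3) (Fin 3) F
local notation "S3" => scalars (Fin 3) F
local notation "SL3" => specialLinear (Fin 3) F
local notation "sc" => scalarGL (Fin 3)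
local notation "V2" => ZMod 3 × ZMod 3

/-- Powers with exponent modulo three. -/
def pw {Γ : Type*} [Monoid Γ] (x : Γ) (a : ZMod 3) : Γ := x ^ a.val

theorem pw_add {Γ : Type*} [Monoid Γ] {x : Γ} (h : x ^ 3 = 1) (a b : ZMod 3) :
    pw x (a + b) = pw x a * pw x b := by rw [pw, ZMod.val_add, ← pow_eq_pow_mod _ h, pow_add, pw, pw]

/-- `r s = k s r`. -/
def Cm (r s : G3) (k : Fˣ) : Prop := r * s = sc k * (s * r)

namespace Cm

variable {r s t : GL (Fin 3) F} {k l : Fˣ}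

theorem iff : Cm r s k ↔ (r : M3) * s = (k : F) • ((s : M3) * r) := by
  rw [Cm, Units.ext_iff, coe_scalarGL_mul]; rfl

theorem unique (h : Cm r s k) (h' : Cm r s l) : k = l :=
  scalarGL_injective (mul_right_cancel (h.symm.trans h'))

theorem smul (a b : Fˣ) : Cm (sc a * r) (sc b * s) k ↔ Cm r s k := by
  simp only [iff, coe_scalarGL_mul, Matrix.smul_mul, Matrix.mul_smul, smul_smul]
  rw [mul_comm (a : F), mul_comm (k : F), mul_smul ((b : F) * a)]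
  exact (smul_right_injective _ (mul_ne_zero b.ne_zero a.ne_zero)).eq_iff

theorem conj (h : Cm r s k) (g : G3) : Cm (g * r * g⁻¹) (g * s * g⁻¹) k := by
  rw [Cm, conj_mul, conj_mul, h, ← conj_mul, conj_scalarGL]

theorem mul (h : Cm r t k) (h' : Cm s t l) : Cm (r * s) t (k * l) := by
  rw [Cm, mul_assoc, h', ← mul_assoc, scalarGL_comm, mul_assoc, ← mul_assoc r, h, mul_comm k, map_mul]
  simp only [mul_assoc]

theorem inv (h : Cm r t k) : Cm r⁻¹ t k⁻¹ := by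
  rw [Cm, map_inv, eq_inv_mul_iff_mul_eq, eq_mul_inv_iff_mul_eq, mul_assoc, mul_assoc,
    ← scalarGL_comm, mul_assoc, scalarGL_comm, ← h, inv_mul_cancel_left]

theorem symm (h : Cm r t k) : Cm t r k⁻¹ := by rw [Cm, map_inv, h, inv_mul_cancel_left]

theorem one (t : G3) : Cm 1 t 1 := by simp [Cm]

theorem pow (h : Cm r t k) (n : ℕ) : Cm (r ^ n) t (k ^ n) := by
  induction n with
  | zero => simpa using one t
  | succ n ih => rw [pow_succ, pow_succ]; exact ih.mul h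

theorem cube (h : Cm r t k) : k ^ 3 = 1 := Units.ext (by
  have := congrArg det (iff.1 h)
  rw [det_smul, det_mul, det_mul, mul_comm] at this
  simpa using mul_right_cancel₀ (mul_ne_zero t.det_ne_zero r.det_ne_zero)
    (this.symm.trans (one_mul _).symm))

end Cm

/-- The centraliser modulo scalars. -/
def cm (t : G3) : Subgroup G3 where
  carrier := {r | ∃ k, Cm r t k}
  one_mem' := ⟨1, Cm.one t⟩
  mul_mem' := fun ⟨_, h⟩ ⟨_, h'⟩ => ⟨_, h.mul h'⟩
  inv_mem' := fun ⟨_, h⟩ => ⟨_, h.inv⟩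

/-- A primitive cube root of unity. -/
structure Cube (ω : Fˣ) : Prop where
  eq : (ω : F) ^ 2 + ω + 1 = 0
  three : (3 : F) ≠ 0

/-- A diagonal element of order three. -/
def zz (ω : Fˣ) : G3 := dg 1 ω (ω ^ 2)

/-- The Heisenberg group times scalars. -/
def Hs (ω : Fˣ) : Subgroup G3 := cm cy ⊓ cm (zz ω)

/-- Representatives of the Heisenberg group modulo scalars. -/
def ee (ω : Fˣ) (u : V2) : G3 := pw cy u.1 * pw (zz ω) u.2

/-- The action of `g` on the Heisenberg group modulo scalars. -/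
def Ac (ω : Fˣ) (g : G3) (A : V2 → V2) : Prop := ∀ u, ∃ c, g * ee ω u * g⁻¹ = sc c * ee ω (A u)

theorem cy_cube : (cy : G3) ^ 3 = 1 := by rw [pow_succ, sq]; gl3

variable {ω : Fˣ}

theorem ee_one_zero : ee ω (1, 0) = cy := by simp [ee, pw, ZMod.val_one]

theorem ee_zero_one : ee ω (0, 1) = zz ω := by simp [ee, pw, ZMod.val_one]

theorem Ac.mul {g h : G3} {A B : V2 → V2} (hg : Ac ω g A) (hh : Ac ω h B) :
    Ac ω (g * h) (A ∘ B) := fun u => by
  obtain ⟨c, hc⟩ := hh u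
  obtain ⟨d, hd⟩ := hg (B u)
  refine ⟨c * d, ?_⟩
  rw [show g * h * ee ω u * (g * h)⁻¹ = g * (h * ee ω u * h⁻¹) * g⁻¹ by group, hc, ← conj_mul,
    conj_scalarGL, hd, map_mul, mul_assoc]
  rfl

theorem Ac.one : Ac ω 1 id := fun _ => ⟨1, by simp⟩

theorem Ac.pow {g : G3} {A : V2 → V2} (hg : Ac ω g A) (n : ℕ) : Ac ω (g ^ n) A^[n] := by
  induction n with
  | zero => simpa using Ac.one
  | succ n ih => rw [pow_succ]; exact ih.mul hg

theorem Ac.mem {g : G3} (hg : Ac ω g id) : g ∈ Hs ω := by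
  obtain ⟨c, hc⟩ := hg (1, 0)
  obtain ⟨d, hd⟩ := hg (0, 1)
  rw [id, ee_one_zero, mul_inv_eq_iff_eq_mul, mul_assoc] at hc
  rw [id, ee_zero_one, mul_inv_eq_iff_eq_mul, mul_assoc] at hd
  exact ⟨⟨c, hc⟩, d, hd⟩

theorem sc_mem_Hs (c : Fˣ) : sc c ∈ Hs ω := by
  constructor <;> exact ⟨1, by rw [Cm, map_one, one_mul, scalarGL_comm]⟩

namespace Cube

theorem cube' (h : Cube ω) : (ω : F) ^ 3 = 1 := by linear_combination (ω - 1) * h.eq

theorem cube (h : Cube ω) : ω ^ 3 = 1 := Units.ext (by simpa using h.cube')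

theorem ne_one' (h : Cube ω) : (ω : F) - 1 ≠ 0 := fun h0 =>
  h.three (by linear_combination h.eq - (ω + 2) * h0)

theorem ne_one (h : Cube ω) : ω ≠ 1 := fun h0 => h.ne_one' (by simp [h0])

theorem sq_ne_one' (h : Cube ω) : (ω : F) ^ 2 - 1 ≠ 0 := fun h0 =>
  h.ne_one' (by linear_combination h.cube' - ω * h0)

theorem sub_ne (h : Cube ω) : (ω : F) - ω ^ 2 ≠ 0 := fun h0 =>
  mul_ne_zero ω.ne_zero h.ne_one' (by linear_combination -h0)

theorem pw_inj (h : Cube ω) {a b : ZMod 3} (e : pw ω a = pw ω b) : a = b := by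
  have := Fact.mk Nat.prime_three
  have o := orderOf_eq_prime h.cube h.ne_one
  exact ZMod.val_injective 3 (pow_injOn_Iio_orderOf (a.val_lt.trans_eq o.symm)
    (b.val_lt.trans_eq o.symm) e)

theorem exists_pw (h : Cube ω) {k : Fˣ} (hk : k ^ 3 = 1) : ∃ a, k = pw ω a := by
  have : ((k : F) - 1) * ((k - ω) * (k - ω ^ 2)) = 0 := by
    have : (k : F) ^ 3 = 1 := by simpa using congrArg Units.val hk
    linear_combination this + (-(k : F) ^ 2 + ω * k - (ω - 1)) * h.eq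
  rcases mul_eq_zero.1 this with e | e
  · exact ⟨0, Units.ext (by simpa [pw] using sub_eq_zero.1 e)⟩
  rcases mul_eq_zero.1 e with e | e
  · exact ⟨1, Units.ext (by simpa [pw, ZMod.val_one] using sub_eq_zero.1 e)⟩
  · exact ⟨2, Units.ext (sub_eq_zero.1 e)⟩

theorem zz_cube (h : Cube ω) : zz ω ^ 3 = 1 := by
  rw [zz, dg_pow, ← pow_mul, mul_comm, pow_mul, h.cube]; simp [dg_one]

theorem zz_mem_SL (h : Cube ω) : zz ω ∈ SL3 := dg_mem_SL (by rw [one_mul, ← pow_succ', h.cube])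

theorem cm_zz_cy (h : Cube ω) : Cm (zz ω) cy ω := Cm.iff.2 (ext3 (by
  simp [zz, Matrix.mul_apply, Fin.sum_univ_three]
  exact ⟨by linear_combination -h.cube', sq _⟩))

theorem cm_pw (h : Cube ω) (a b : ZMod 3) : Cm (pw (zz ω) a) (pw cy b) (pw ω (a * b)) := by
  have := ((h.cm_zz_cy.pow a.val).symm.pow b.val).symm
  rwa [inv_pow, inv_inv, ← pow_mul, pow_eq_pow_mod _ h.cube, ← ZMod.val_mul] at this

theorem ee_mul (h : Cube ω) (u v : V2) :
    ee ω u * ee ω v = sc (pw ω (u.2 * v.1)) * ee ω (u + v) := by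
  simp only [ee, Prod.fst_add, Prod.snd_add, pw_add cy_cube, pw_add h.zz_cube, mul_assoc]
  rw [← mul_assoc (pw (zz ω) _), h.cm_pw, mul_assoc, ← mul_assoc (pw cy u.1), scalarGL_comm]
  simp only [mul_assoc]

theorem cm_ee (h : Cube ω) (u v : V2) : Cm (ee ω u) (ee ω v) (pw ω (u.2 * v.1 - v.2 * u.1)) := by
  rw [Cm, h.ee_mul, h.ee_mul, ← mul_assoc, ← map_mul, ← pw_add h.cube, sub_add_cancel, add_comm]

theorem ee_inj (h : Cube ω) {a b : Fˣ} {u v : V2} (e : sc a * ee ω u = sc b * ee ω v) : u = v := by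
  have k : ∀ w : V2, u.2 * w.1 - w.2 * u.1 = v.2 * w.1 - w.2 * v.1 := fun w => h.pw_inj
    (((Cm.smul a 1).2 (h.cm_ee u w)).unique (e ▸ (Cm.smul b 1).2 (h.cm_ee v w)))
  exact Prod.ext (by simpa using k (0, 1)) (by simpa using k (1, 0))

theorem ac_unique (h : Cube ω) {g : G3} {A B : V2 → V2} (h1 : Ac ω g A) (h2 : Ac ω g B) : A = B :=
  funext fun u => by
    obtain ⟨c, hc⟩ := h1 u
    obtain ⟨d, hd⟩ := h2 u
    exact h.ee_inj (hc.symm.trans hd)

theorem ee_mem (h : Cube ω) (u : V2) : ee ω u ∈ Hs ω :=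
  ⟨⟨_, ee_one_zero (ω := ω) ▸ h.cm_ee u (1, 0)⟩, _, ee_zero_one (ω := ω) ▸ h.cm_ee u (0, 1)⟩

theorem mem_scalars (h : Cube ω) {r : G3} (h1 : r * cy = cy * r) (h2 : r * zz ω = zz ω * r) :
    r ∈ S3 := by
  have e1 := fun i j => congrFun (congrFun (congrArg (fun g : G3 => (g : M3)) h1) i) j
  have e2 := fun i j => congrFun (congrFun (congrArg (fun g : G3 => (g : M3)) h2) i) j
  have k : ∀ {a x : F}, a ≠ 0 → a * x = 0 → x = 0 := fun ha e => (mul_eq_zero.1 e).resolve_left ha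
  have a1 := e2 0 1
  have a2 := e2 0 2
  have b := e1 0 0
  have b1 := e1 1 0
  have b2 := e1 1 1
  have b3 := e1 1 2
  have b4 := e1 2 0
  have b5 := e1 2 1
  have b6 := e1 2 2
  simp [zz, Matrix.mul_apply, Fin.sum_univ_three] at a1 a2 b b1 b2 b3 b4 b5 b6
  have c1 : (r : M3) 0 1 = 0 := k h.ne_one' (by linear_combination a1)
  have c2 : (r : M3) 0 2 = 0 := k h.sq_ne_one' (by linear_combination a2)
  refine mem_scalars_of_eq (c := (r : M3) 0 0) (ext3 ?_)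
  simp [← b, b1, b2, b3, b4, b5, c1, c2]

theorem mem_Hs (h : Cube ω) {r : G3} : r ∈ Hs ω ↔ ∃ c u, r = sc c * ee ω u := by
  refine ⟨fun ⟨⟨k, hk⟩, l, hl⟩ => ?_, ?_⟩
  · obtain ⟨a, rfl⟩ := h.exists_pw hk.cube
    obtain ⟨b, rfl⟩ := h.exists_pw hl.cube
    have h1 := hk.mul (ee_one_zero (ω := ω) ▸ h.cm_ee (-b, a) (1, 0)).inv
    have h2 := hl.mul (ee_zero_one (ω := ω) ▸ h.cm_ee (-b, a) (0, 1)).inv
    obtain ⟨c, hc⟩ := h.mem_scalars (by simpa [Cm] using h1) (by simpa [Cm] using h2)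
    exact ⟨c, _, (eq_mul_inv_iff_mul_eq.1 hc).symm⟩
  · rintro ⟨c, u, rfl⟩
    exact mul_mem (sc_mem_Hs c) (h.ee_mem u)

theorem pow_nine (h : Cube ω) {r : G3} (hr : r ∈ Hs ω) (hr' : r ∈ SL3) : r ^ 9 = 1 := by
  obtain ⟨⟨k, hk⟩, l, hl⟩ := hr
  have h1 := hk.pow 3
  have h2 := hl.pow 3
  rw [hk.cube] at h1
  rw [hl.cube] at h2
  exact (pow_mul r 3 3).trans (cube_of_mem_scalars (pow_mem hr' 3)
    (h.mem_scalars (by simpa [Cm] using h1) (by simpa [Cm] using h2)))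

theorem exists_ac (h : Cube ω) {g : G3} (hg : g ∈ Subgroup.normalizer (Hs ω : Set G3)) :
    ∃ a b : V2, a.2 * b.1 - b.2 * a.1 = -1 ∧ Ac ω g fun u => u.1 • a + u.2 • b := by
  choose c A hA using fun u => h.mem_Hs.1 ((hg _).1 (h.ee_mem u))
  let φ : V2 →+ V2 := AddMonoidHom.mk' A fun u v => by
    have := congrArg (fun x => g * x * g⁻¹) (h.ee_mul u v)
    simp only [← conj_mul, conj_scalarGL, hA] at this
    rw [← mul_assoc, mul_assoc (sc _), scalarGL_comm, mul_assoc, mul_assoc, h.ee_mul] at this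
    simp only [← mul_assoc, ← map_mul] at this
    exact (h.ee_inj this).symm
  refine ⟨A (1, 0), A (0, 1), h.pw_inj ?_, fun u => ⟨c u, (hA u).trans ?_⟩⟩
  · have := (h.cm_ee (1, 0) (0, 1)).conj g
    rw [hA, hA, Cm.smul] at this
    simpa using (h.cm_ee _ _).unique this
  · congr 2
    change φ u = u.1 • φ (1, 0) + u.2 • φ (0, 1)
    rw [← ZMod.map_smul, ← ZMod.map_smul, ← map_add]
    simp

end Cube

/-- Properties of subgroups of the Hessian group. -/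
structure PE (X : Subgroup G3) : Prop where
  e4 : ∀ a ∈ X, ∀ b ∈ X, a * a = 1 → b * b = 1 → a * b = b * a → a = 1 ∨ b = 1 ∨ a = b
  e108 : ∀ g ∈ X, g ^ 108 = 1

theorem PE.pl {X : Subgroup G3} (h : PE X) (P : G3) : PE (pl P X) := by
  refine ⟨fun a ha b hb h1 h2 h3 => ?_, fun g hg => conj_pow_eq_one.1 (h.e108 _ (mem_pl.1 hg))⟩
  simpa using h.e4 _ (mem_pl.1 ha) _ (mem_pl.1 hb) (by simp [h1]) (by simp [h2]) (by simp [h3])

theorem PE.not_four {X : Subgroup G3} (h : PE X) (h2 : (2 : F) ≠ 0) (hw : ww ∈ X) :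
    dg (-1) 1 (-1)⁻¹ ∉ X := fun hd => by
  rcases h.e4 _ hw _ hd ww_mul_ww (by gl3) (by gl3) with e | e | e
  · exact ww_ne_one e
  · exact h2 (by
      have := congrArg (fun g : G3 => (g : M3) 0 0) e
      simp only [coe_dg] at this
      linear_combination -(by simpa using this : (-1 : F) = 1))
  · simpa using congrArg (fun g : G3 => (g : M3) 0 0) e

theorem Cube.pE (h : Cube ω) {X : Subgroup G3} (h1 : X ≤ Subgroup.normalizer (Hs ω : Set G3))
    (h2 : X ≤ SL3) : PE X := by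
  have k : ∀ g ∈ X, g * g = 1 → Ac ω g id → g = 1 := fun g hg e ha => by
    simpa [pow_succ, mul_assoc, e] using h.pow_nine ha.mem (h2 hg)
  have k' : ∀ g ∈ X, g * g = 1 → g = 1 ∨ Ac ω g fun u => -u := fun g hg e => by
    obtain ⟨a, b, h3, h4⟩ := h.exists_ac (h1 hg)
    have : ∀ a b : V2, a.2 * b.1 - b.2 * a.1 = -1 →
      (∀ u, ((fun u : V2 => u.1 • a + u.2 • b) ∘ fun u : V2 => u.1 • a + u.2 • b) u = id u) →
      (∀ u : V2, u.1 • a + u.2 • b = u) ∨ ∀ u : V2, u.1 • a + u.2 • b = -u := by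
      decide +kernel
    exact (this a b h3 (congrFun (h.ac_unique (h4.mul h4) (e ▸ Ac.one)))).imp
      (fun e' => k g hg e (by simp only [e'] at h4; exact h4)) fun e' => by simpa only [e'] using h4
  refine ⟨fun a ha b hb e1 e2 e3 => ?_, fun g hg => ?_⟩
  · refine (k' a ha e1).imp_right fun h3 => (k' b hb e2).imp_right fun h4 => ?_
    have := k _ (mul_mem ha hb) (by
      rw [mul_assoc, ← mul_assoc b, ← e3, mul_assoc, e2, mul_one, e1]) (by
        convert h3.mul h4 using 1; ext <;> simp)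
    rw [eq_inv_of_mul_eq_one_left this, inv_eq_of_mul_eq_one_right e2]
  · obtain ⟨a, b, h3, h4⟩ := h.exists_ac (h1 hg)
    have : ∀ a b : V2, a.2 * b.1 - b.2 * a.1 = -1 →
      (fun u : V2 => u.1 • a + u.2 • b)^[12] = id := by decide +kernel
    exact (pow_mul g 12 9).trans (h.pow_nine (this a b h3 ▸ h4.pow 12).mem (pow_mem (h2 hg) 12))

namespace Cube

theorem normalizer_eq (h : Cube ω) {R : Subgroup G3} (hR : ∀ x ∈ R, ∀ y ∈ R, ∃ k, Cm x y k)
    (hp : ∀ x ∈ R, x ^ 3 = 1) (h1 : cy ∈ R) (h2 : zz ω ∈ R) :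
    Subgroup.normalizer (R : Set G3) = Subgroup.normalizer (Hs ω : Set G3) := by
  have he : ∀ u, ee ω u ∈ R := fun u => mul_mem (pow_mem h1 _) (pow_mem h2 _)
  have hle : R ≤ Hs ω := fun r hr => ⟨hR r hr _ h1, hR r hr _ h2⟩
  refine le_antisymm (NrmG.le_normalizer fun g hg r hr => ?_)
    (NrmG.le_normalizer fun g hg r hr => ?_)
  · obtain ⟨c, u, rfl⟩ := h.mem_Hs.1 hr
    rw [← conj_mul, conj_scalarGL]
    exact mul_mem (sc_mem_Hs c) (hle ((hg _).1 (he u)))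
  · obtain ⟨c, u, e⟩ := h.mem_Hs.1 ((hg _).1 (hle hr))
    have e3 := (conj_pow_eq_one (P := g)).2 (hp r hr)
    rw [e, Commute.mul_pow (scalarGL_comm c _).symm, hp _ (he u), mul_one, ← map_pow,
      ← map_one (scalarGL (Fin 3))] at e3
    obtain ⟨a, rfl⟩ := h.exists_pw (scalarGL_injective e3)
    rw [e, pw, map_pow]
    exact mul_mem (pow_mem (scalarGL_mem_of_comm h2 h1 h.cm_zz_cy) _) (he u)

theorem pl_normalizer (h : Cube ω) {R : Subgroup G3} (hR : Cl2 3 R) {P x z : G3} (hx : x ∈ R)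
    (hz : z ∈ R) (e1 : cj P⁻¹ x.1 = !![0, 0, 1; 1, 0, 0; 0, 1, 0])
    (e2 : cj P⁻¹ z.1 = diagonal ![1, (ω : F), ω ^ 2]) :
    pl P (subgroupNormalizer R) = Subgroup.normalizer (Hs ω : Set G3) := by
  refine (Subgroup.comap_normalizer_eq_of_surjective _ (MulEquiv.surjective _)).trans
    (h.normalizer_eq (R := pl P R) (fun a ha b hb => ?_) (fun a ha => ?_) ?_ ?_)
  · obtain ⟨c, -, hc⟩ := hR.comm _ (mem_pl.1 ha) _ (mem_pl.1 hb)
    exact ⟨c, by simpa [mul_assoc] using Cm.conj hc P⁻¹⟩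
  · exact conj_pow_eq_one.1 (hR.pow _ (mem_pl.1 ha))
  · rw [mem_pl, show cy = P⁻¹ * x * P⁻¹⁻¹ from gext (e1.symm.trans (cj_coe _ _))]
    simpa [mul_assoc] using hx
  · rw [mem_pl, show zz ω = P⁻¹ * z * P⁻¹⁻¹ from gext (Eq.trans (ext3 (by simp [zz]))
      (e2.symm.trans (cj_coe _ _)))]
    simpa [mul_assoc] using hz

theorem exists_heis (h : Cube ω) {R : Subgroup G3} (hR : Cl2 3 R) :
    ∃ P : G3, ∃ x ∈ R, ∃ z ∈ R, cj P⁻¹ x.1 = !![0, 0, 1; 1, 0, 0; 0, 1, 0] ∧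
      cj P⁻¹ z.1 = diagonal ![1, (ω : F), ω ^ 2] := by
  obtain ⟨x, hx, z, hz, hxz⟩ : ∃ x ∈ R, ∃ z ∈ R, Cm z x ω := by
    obtain ⟨x, hx, hx'⟩ := SetLike.not_le_iff_exists.1
      (not_le_scalars_of_env_eq_top hR.two_le hR.env_top)
    obtain ⟨y, hy, c, hc1, hc3, e⟩ := hR.exists_comm_ne hx hx'
    obtain ⟨a, rfl⟩ := h.exists_pw hc3
    fin_cases a
    · exact absurd (pow_zero _) hc1
    · exact ⟨x, hx, y, hy, pow_one ω ▸ e⟩
    · exact ⟨y, hy, x, hx, (inv_eq_of_mul_eq_one_right ((pow_succ ω 2).symm.trans h.cube)) ▸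
        Cm.symm e⟩
  have hx3 : x.1 * x.1 * x.1 = 1 := by simpa [pow_succ] using congrArg Units.val (hR.pow x hx)
  have hz3 : z.1 * z.1 * z.1 = 1 := by simpa [pow_succ] using congrArg Units.val (hR.pow z hz)
  have hzx : ∀ v, z.1 *ᵥ (x.1 *ᵥ v) = (ω : F) • x.1 *ᵥ (z.1 *ᵥ v) := fun v => by
    rw [mulVec_mulVec, Cm.iff.1 hxz, smul_mulVec, mulVec_mulVec]
  have hx3' : ∀ v, x.1 *ᵥ (x.1 *ᵥ (x.1 *ᵥ v)) = v := fun v => by
    rw [mulVec_mulVec, mulVec_mulVec, hx3, one_mulVec]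
  obtain ⟨w, hw0, hw⟩ : ∃ u, u ≠ 0 ∧ z.1 *ᵥ u = u := by
    have hs : z ∉ S3 := fun hs => h.ne_one (hxz.unique (by simpa [Cm] using comm_of_mem_scalars hs x))
    have t1 := hR.trace_eq_zero hz hs
    have t2 : z.1.adjugate.trace = 0 := by
      rw [← Units.inv_mul_cancel_left z z.1.adjugate, mul_adjugate, Matrix.mul_smul, mul_one,
        trace_smul, hR.trace_eq_zero (inv_mem hz) (by simpa using hs), smul_zero]
    have d := congrFun (congrFun (cayley3 z.1) 0) 0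
    obtain ⟨w, hw0, hw⟩ := exists_mulVec_eq_zero_iff.2 (show ((1 : F) • 1 - z.1).det = 0 by
      rw [det_sub3, t1, t2]
      simpa [hz3, t1, t2, sub_eq_zero] using d)
    exact ⟨w, hw0, by rw [sub_mulVec, one_smul, one_mulVec, sub_eq_zero] at hw; exact hw.symm⟩
  have h1 : z.1 *ᵥ (x.1 *ᵥ w) = (ω : F) • x.1 *ᵥ w := by rw [hzx, hw]
  have h2 : z.1 *ᵥ (x.1 *ᵥ (x.1 *ᵥ w)) = (ω : F) ^ 2 • x.1 *ᵥ (x.1 *ᵥ w) := by
    rw [hzx, h1, mulVec_smul, smul_smul, sq]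
  obtain ⟨P, hP, -⟩ := exists_frame (a := w) (b := x.1 *ᵥ w) (m := x.1 *ᵥ (x.1 *ᵥ w))
    fun a b c e => by
      have e1 := congrArg (z.1 *ᵥ ·) e
      have e2 := congrArg (z.1 *ᵥ ·) e1
      simp only [mulVec_add, mulVec_smul, hw, h1, h2, mulVec_zero] at e1 e2
      have k : ∀ {t : F} {v : Fin 3 → F}, v ≠ 0 → (3 * t) • v = 0 → t = 0 := fun hv e => by
        simpa [hv, h.three] using e
      have n1 : x.1 *ᵥ w ≠ 0 := fun e => hw0 (coe_mulVec_eq_zero x e)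
      refine ⟨k hw0 ?_, k n1 ?_, k (fun e => n1 (coe_mulVec_eq_zero x e)) ?_⟩ <;>
      · ext i
        have f0 := congrFun e i
        have f1 := congrFun e1 i
        have f2 := congrFun e2 i
        have := h.eq
        simp only [Pi.add_apply, Pi.smul_apply, smul_eq_mul, Pi.zero_apply] at f0 f1 f2 ⊢
        grind
  have key : ∀ {a b : M3}, (∀ v, P.1 *ᵥ (b *ᵥ v) = a *ᵥ (P.1 *ᵥ v)) → cj P⁻¹ a = b :=
    fun {a b} hab => by
      rw [← (cj_eq_iff P b a).2 (Matrix.ext_iff_mulVec.2 fun v => by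
        simpa only [mulVec_mulVec] using hab v), cj_inv_cj]
  refine ⟨P, x, hx, z, hz, key fun v => ?_, key fun v => ?_⟩
  · rw [mv3, hP, vec3_eta v, hP]
    simp only [mulVec_add, mulVec_smul, hx3']
    simp only [cons_val_zero, cons_val_one, cons_val_two, tail_cons, head_cons]
    module
  · rw [vec3_eta (_ *ᵥ v), hP, vec3_eta v, hP]
    simp only [mulVec_add, mulVec_smul, hw, h1, h2, mulVec_diagonal]
    simp only [cons_val_zero, cons_val_one, cons_val_two, tail_cons, head_cons]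
    module

theorem mem_normalizer [Finite F] (h : Cube ω) {g : G3} (h1 : g * cy * g⁻¹ ∈ Hs ω)
    (h2 : g * zz ω * g⁻¹ ∈ Hs ω) : g ∈ Subgroup.normalizer (Hs ω : Set G3) := by
  refine Subgroup.mem_normalizer_fintype fun r hr => ?_
  obtain ⟨c, u, rfl⟩ := h.mem_Hs.1 hr
  rw [ee, ← conj_mul, conj_scalarGL, ← conj_mul, pw, pw, ← conj_pow, ← conj_pow]
  exact mul_mem (sc_mem_Hs c) (mul_mem (pow_mem h1 _) (pow_mem h2 _))

theorem cy_mem (h : Cube ω) : cy ∈ Hs ω := ee_one_zero (ω := ω) ▸ h.ee_mem _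

theorem zz_mem (h : Cube ω) : zz ω ∈ Hs ω := ee_zero_one (ω := ω) ▸ h.ee_mem _

theorem exists_ph (h : Cube ω) : ∃ (g : G3) (t : F), t * (ω - ω ^ 2) = 1 ∧
    (g : M3) = !![t, t, t; t, t * ω, t * ω ^ 2; t, t * ω ^ 2, t * ω] ∧ g * g = w2 ∧ g ∈ SL3 ∧
    g * cy * g⁻¹ = zz ω ∧ g * zz ω * g⁻¹ = cy⁻¹ := by
  obtain ⟨t, ht⟩ : ∃ t : F, t * (ω - ω ^ 2) = 1 := ⟨_, inv_mul_cancel₀ h.sub_ne⟩
  have e := h.eq
  have k : (!![t, t, t; t, t * ω, t * ω ^ 2; t, t * ω ^ 2, t * ω] : M3) *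
      !![t, t, t; t, t * ω, t * ω ^ 2; t, t * ω ^ 2, t * ω] = (w2 : G3) :=
    ext3 (by simp [Matrix.mul_apply, Fin.sum_univ_three]; grind)
  refine ⟨mk2 _ (_ * (w2 : G3)) (by rw [← mul_assoc, k, ← Units.val_mul, w2_mul_w2]; rfl), t, ht,
    rfl, gext k, AL.mem_specialLinear'.2 ?_, mul_inv_eq_iff_eq_mul.2 (gext (ext3 ?_)),
    mul_inv_eq_iff_eq_mul.2 (eq_inv_mul_iff_mul_eq.2 (gext (ext3 ?_)))⟩
  · simp [mk2, det_fin_three]; grind
  · simp [mk2, zz, Matrix.mul_apply, Fin.sum_univ_three]; grind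
  · simp [mk2, zz, Matrix.mul_apply, Fin.sum_univ_three]; grind

theorem dg_mem_normalizer [Finite F] (h : Cube ω) :
    dg 1 ω ω ∈ Subgroup.normalizer (Hs ω : Set G3) := by
  refine h.mem_normalizer ?_ ?_
  · have e := h.cube'
    rw [show dg 1 ω ω * cy * (dg 1 ω ω)⁻¹ = sc ω * cy * zz ω * zz ω from
      mul_inv_eq_iff_eq_mul.2 (gext (ext3 (by
        simp [zz, Matrix.mul_apply, Fin.sum_univ_three]; grind)))]
    exact mul_mem (mul_mem (mul_mem (sc_mem_Hs _) h.cy_mem) h.zz_mem) h.zz_mem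
  · rw [zz, dg_mul, dg_inv, dg_mul]
    simpa [mul_comm ω, zz] using h.zz_mem

end Cube

end Cfsg.Lib.Mit.Mx
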