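import Cfsg.Agent.Mit.MxMon
import Cfsg.Agent.Mit.E9
import Cfsg.Agent.Class.Asch.FieldSub

/-!
# Normalisers of cubic subfields of the matrix algebra
-/

set_option autoImplicit false

namespace Cfsg.Lib.Mit.Mx

open Matrix Cfsg.Geo Cfsg.Lib.Class Cfsg.Lib.Class.Asch
open scoped MatrixGroups commutatorElement

variable {F : Type*} [Field F]

local notation "G3" => GL (Fin 3) F
local notation "M3" => Matrix (Fin 3) (Fin 3) F
local notation "S3" => scalars (Fin 3) F
local notation "SL3" => specialLinear (Fin 3) F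

/-- No involutions. -/
def NoInv (X : Subgroup G3) : Prop := ∀ g ∈ X, g * g = 1 → g = 1

theorem NoInv.pl {X : Subgroup G3} (h : NoInv X) (P : G3) : NoInv (pl P X) := fun g hg e =>
  conj_eq_one_iff.1 (h _ (mem_pl.1 hg) (by rw [conj_mul, e, mul_one, mul_inv_cancel]))

theorem NoInv.not_ww {X : Subgroup G3} (h : NoInv X) : ww ∉ X := fun hw =>
  ww_ne_one (h _ hw ww_mul_ww)

variable {K K' : Subalgebra F (Matrix (Fin 3) (Fin 3) F)} {g s : GL (Fin 3) F}

theorem eq_zero_of_det (hK : IsFieldSubalgebra 3 K) {x : M3} (hx : x ∈ K) (h : x.det = 0) :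
    x = 0 := by_contra fun h0 => by
  obtain ⟨y, -, e⟩ := hK.inv x hx h0
  simpa [h] using congrArg det e

theorem mem_nrm_of_mem (hK : IsFieldSubalgebra 3 K) (hs : (s : M3) ∈ K) :
    s ∈ subalgebraNormalizer K := by
  have k : ∀ k ∈ K, cj s k = k := fun k hk => (cj_eq_self_iff _ _).2 (hK.comm _ hs _ hk)
  refine (mem_subalgebraNormalizer K s).2 fun x => ⟨fun hx => by rwa [k x hx], fun hx => ?_⟩
  rwa [(cj s).injective (k _ hx)] at hx

theorem one_of_tr_eq (hK : IsFieldSubalgebra 3 K) (hg : (g : M3) ∈ K) (hg' : g ∈ SL3)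
    (h : tr g = tr g⁻¹) : g = 1 := by
  have := eq_zero_of_det hK (sub_mem (K.smul_mem K.one_mem 1) hg) (by
    rw [det_sub3, adj_eq_inv hg', det_eq_one hg']
    unfold tr at h
    linear_combination -h)
  exact gext (by rw [one_smul, sub_eq_zero] at this; exact this.symm)

variable [Fintype F]

theorem cube_mem (hK : IsFieldSubalgebra 3 K) (hg : g ∈ subalgebraNormalizer K) :
    ((g ^ 3 : G3) : M3) ∈ K := by
  let _ := (isField_of_isFieldSubalgebra hK).toField
  have hN := nrm_of_le_subalgebraNormalizer (le_refl (subalgebraNormalizer K))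
  have : Finite K := Module.finite_of_finite F
  have e : hN.restrict hg ^ 3 = 1 := by
    have := pow_card_eq_one' (x := hN.restrict hg)
    rwa [IsGalois.card_aut_eq_finrank, hK.finrank_eq] at this
  refine IsFieldSubalgebra.mem_of_comm (by simpa using hK) fun k hk => (cj_eq_self_iff _ _).1 ?_
  have := congrArg Subtype.val (AlgEquiv.congr_fun e ⟨k, hk⟩)
  simpa [pow_succ, cj_mul] using this

theorem noInv_field (hK : IsFieldSubalgebra 3 K) {X : Subgroup G3}
    (h1 : X ≤ subalgebraNormalizer K) (h2 : X ≤ SL3) : NoInv X := fun g hg e => by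
  have h3 := cube_mem hK (h1 hg)
  rw [pow_succ, sq, e, one_mul] at h3
  exact one_of_tr_eq hK h3 (h2 hg) (by rw [inv_eq_of_mul_eq_one_right e])

theorem eq_of_nonscalar (hK : IsFieldSubalgebra 3 K) {A : Subalgebra F M3} (hA : A ≤ K)
    (hg : (g : M3) ∈ A) (hs : g ∉ S3) : A = K := by
  have h := IsFieldSubalgebra.of_le hK hA
  rcases (Nat.dvd_prime Nat.prime_three).1 (by simpa using IsFieldSubalgebra.dvd_card h) with e | e
  · rw [Subalgebra.finrank_eq_one_iff.1 e, mem_bot_iff] at hg
    exact absurd ((mem_scalars_iff' g).2 hg) hs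
  · exact Subalgebra.eq_of_le_of_finrank_eq hA (e.trans hK.finrank_eq.symm)

theorem field_eq (hK : IsFieldSubalgebra 3 K) (hK' : IsFieldSubalgebra 3 K') (hg : (g : M3) ∈ K)
    (hg' : (g : M3) ∈ K') (hs : g ∉ S3) : K = K' :=
  (eq_of_nonscalar (A := K ⊓ K') hK inf_le_left ⟨hg, hg'⟩ hs).symm.trans
    (eq_of_nonscalar hK' inf_le_right ⟨hg, hg'⟩ hs)

theorem irr_of_field (hK : IsFieldSubalgebra 3 K) (hg : (g : M3) ∈ K) (hs : g ∉ S3)
    {X : Subgroup G3} (hX : g ∈ X) : Irr X := fun W hW => by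
  refine or_iff_not_imp_left.2 fun h0 => ?_
  obtain ⟨v, hv, hv0⟩ := (Submodule.ne_bot_iff W).1 h0
  have e : env (Subgroup.zpowers g) = K := eq_of_nonscalar hK (env_le fun x hx => by
    obtain ⟨n, rfl⟩ := mem_powers_iff_mem_zpowers.2 hx
    exact Units.val_pow_eq_pow_val g n ▸ pow_mem hg n) (coe_mem_env (Subgroup.mem_zpowers g)) hs
  let φ : K →ₗ[F] W :=
    { toFun := fun k => ⟨k.1 *ᵥ v, mulVec_mem_of_mem_env
        (fun x hx => hW x (Subgroup.zpowers_le.2 hX hx)) (e.ge k.2) hv⟩
      map_add' := fun k l => Subtype.ext (add_mulVec k.1 l.1 v)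
      map_smul' := fun c k => Subtype.ext (smul_mulVec c k.1 v) }
  have := LinearMap.finrank_le_finrank_of_injective (f := φ)
    ((injective_iff_map_eq_zero _).2 fun k hk => Subtype.ext (eq_zero_of_det hK k.2
      (exists_mulVec_eq_zero_iff.1 ⟨v, hv0, congrArg Subtype.val hk⟩)))
  rw [hK.finrank_eq] at this
  exact Submodule.eq_top_of_finrank_eq (le_antisymm (Submodule.finrank_le W) (by simpa using this))

theorem exists_singer (hK : IsFieldSubalgebra 3 K) {N : ℕ}
    (hN : N ∣ Fintype.card F ^ 2 + Fintype.card F + 1) :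
    ∃ s : G3, (s : M3) ∈ K ∧ s ∈ SL3 ∧ orderOf s = N := by
  let _ := (isField_of_isFieldSubalgebra hK).toField
  have : Finite K := Module.finite_of_finite F
  have hcK : Nat.card K = Fintype.card F ^ 3 := by
    rw [IsFieldSubalgebra.natCard hK, Nat.card_eq_fintype_card]
  obtain ⟨n, hn⟩ : ∃ n, Fintype.card F = n + 2 := ⟨_, (Nat.sub_add_cancel Fintype.one_lt_card).symm⟩
  have e : Fintype.card F ^ 3 - 1 =
      (Fintype.card F ^ 2 + Fintype.card F + 1) * (Fintype.card F - 1) := by
    rw [hn, Nat.sub_eq_of_eq_add]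
    change _ = _ * (n + 1) + 1
    ring
  have hdet : ∀ u : K, algebraMap F K (u : M3).det =
      u ^ (Fintype.card F ^ 2 + Fintype.card F + 1) := fun u => by
    have h1 := Module.finrank_mul_finrank F K (Fin 3 → F)
    rw [hK.finrank_eq, Module.finrank_fin_fun] at h1
    have h2 : Module.finrank K (Fin 3 → F) = 1 := by omega
    have : FiniteDimensional K (Fin 3 → F) := Module.Finite.of_finite
    have h3 : toLin' (u : M3) =
        (u • LinearMap.id : (Fin 3 → F) →ₗ[K] (Fin 3 → F)).restrictScalars F := rfl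
    rw [← LinearMap.det_toLin', h3, LinearMap.det_restrictScalars, LinearMap.det_smul, h2,
      LinearMap.det_id, mul_one, pow_one, FiniteField.algebraMap_norm_eq_pow, hcK,
      Nat.card_eq_fintype_card, e, Nat.mul_div_cancel _ (by omega)]
  obtain ⟨u, hu⟩ := IsCyclic.exists_ofOrder_eq_natCard (α := Kˣ)
  have ho := orderOf_pow_orderOf_div (x := u) (n := N) (orderOf_pos u).ne' (by
    rw [hu, Nat.card_units, hcK, e]; exact hN.mul_right _)
  generalize u ^ (orderOf u / N) = w at ho
  let ι : Kˣ →* G3 := Units.map (K.val : K →* M3)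
  refine ⟨ι w, (w : K).2, AL.mem_specialLinear'.2 ((algebraMap F K).injective ?_),
    (orderOf_injective ι (Units.map_injective Subtype.val_injective) w).trans ho⟩
  refine (hdet w).trans ?_
  rw [← Units.val_pow_eq_pow_val, orderOf_dvd_iff_pow_eq_one.1 (ho ▸ hN), map_one, Units.val_one]

theorem mem_GU_of_pow {q : ℕ} (hF : Fintype.card F = q ^ 2) (hK : IsFieldSubalgebra 3 K)
    (hK' : IsAdjointClosedFor (hermForm 3 F q) K) (hs : (s : M3) ∈ K) (h : s ^ (q ^ 3 + 1) = 1) :
    s ∈ GU 3 F q := by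
  have hf := isSesq_of_isUnitaryFormPow hF (isUnitaryFormPow_hermForm hF 3)
  obtain ⟨t, ht, ht'⟩ := IsFieldSubalgebra.exists_card_eq_sq hK hf
    (fun x hx => hf.adj_mem_of_isAdjointClosedFor hK' hx) fun h => frobqEquiv_ne_refl hF
      (RingEquiv.ext fun c => by
        have := h _ (K.smul_mem K.one_mem c)
        rw [hf.adj_smul_one] at this
        simpa using congrFun (congrFun this 0) 0)
  rw [Nat.card_eq_fintype_card, hF, ← pow_mul, mul_comm, pow_mul] at ht
  rw [← Nat.pow_left_injective two_ne_zero ht] at ht'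
  refine (hf.mem_isoms_iff s).2 ?_
  rw [ht' _ hs, ← pow_succ, ← Units.val_pow_eq_pow_val, h, Units.val_one]

open Polynomial in
theorem orderOf_le_of_tr (hK : IsFieldSubalgebra 3 K) (hs : (s : M3) ∈ K) (hs' : s ∈ SL3)
    {α : Type*} [Finite α] (a b : α → F)
    (h : ∀ k : ℕ, ∃ x, tr ((s ^ k) ^ 3) = a x ∧ tr ((s ^ k) ^ 3)⁻¹ = b x) :
    orderOf s ≤ 9 * Nat.card α := by
  classical
  let _ := (isField_of_isFieldSubalgebra hK).toField
  have := Fintype.ofFinite α
  choose x hx using h
  rw [← Finset.card_range (orderOf s), Nat.card_eq_fintype_card]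
  refine Finset.card_le_mul_card_image_of_maps_to (f := x) (t := Finset.univ)
    (fun _ _ => Finset.mem_univ _) 9 fun y _ => ?_
  let p : K[X] := X ^ 9 - C (algebraMap F K (a y)) * X ^ 6 + C (algebraMap F K (b y)) * X ^ 3 - 1
  have hp : p.natDegree = 9 := by simp only [p]; compute_degree!
  have hp0 : p ≠ 0 := fun e => by simp [e] at hp
  refine le_trans (Finset.card_le_card_of_injOn (fun k => (⟨s, hs⟩ : K) ^ k)
    (t := p.roots.toFinset) (fun k hk => ?_) fun k hk l hl e => ?_)
    ((Multiset.toFinset_card_le _).trans (hp ▸ card_roots' p))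
  · obtain ⟨-, rfl⟩ := Finset.mem_filter.1 hk
    have e := ch (pow_mem (pow_mem hs' k) 3)
    rw [(hx k).1, (hx k).2] at e
    refine Multiset.mem_toFinset.2 ((mem_roots hp0).2 (Subtype.ext ?_))
    simp only [p, eval_sub, eval_add, eval_mul, eval_pow, eval_X, eval_C, eval_one,
      ← Algebra.smul_def]
    simp only [Units.val_pow_eq_pow_val, ← pow_mul] at e
    change ((s : M3) ^ k) ^ 9 - a (x k) • ((s : M3) ^ k) ^ 6 + b (x k) • ((s : M3) ^ k) ^ 3 - 1 = 0
    simp only [← pow_mul]
    rw [show k * 9 = k * 3 * 3 by ring, show k * 6 = k * 3 * 2 by ring, e]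
    abel
  · exact pow_injOn_Iio_orderOf (Finset.mem_range.1 (Finset.mem_filter.1 hk).1)
      (Finset.mem_range.1 (Finset.mem_filter.1 hl).1)
      (gext (by simpa using congrArg Subtype.val e))

end Cfsg.Lib.Mit.Mx
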