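import Cfsg.Agent.Mit.MxBase

/-!
# Monomial subgroups of `GL₃`
-/

set_option autoImplicit false

namespace Cfsg.Lib.Mit.Mx

open Matrix Cfsg.Geo Cfsg.Lib.Class Cfsg.Lib.Class.Asch
open scoped MatrixGroups commutatorElement

variable {F : Type*} [Field F]

local notation "G3" => GL (Fin 3) F
local notation "M3" => Matrix (Fin 3) (Fin 3) F
local notation "S3" => scalars (Fin 3) F
local notation "SL3" => specialLinear (Fin 3) F

/-- `g` is monomial with permutation `s`. -/
def Pm (g : G3) (s : Equiv.Perm (Fin 3)) : Prop := ∀ i j, i ≠ s j → (g : M3) i j = 0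

namespace Pm

variable {g h : GL (Fin 3) F} {s t : Equiv.Perm (Fin 3)}

theorem ne (hg : Pm g s) (j : Fin 3) : (g : M3) (s j) j ≠ 0 := fun h0 => by
  have : (g : M3) *ᵥ Pi.single j 1 = 0 := by
    ext i
    by_cases e : i = s j
    · simp [e, h0]
    · simp [hg i j e]
  simpa using congrFun (coe_mulVec_eq_zero g this) j

theorem unique (hg : Pm g s) (hg' : Pm g t) : s = t :=
  Equiv.ext fun j => by_contra fun e => hg.ne j (hg' _ _ e)

theorem one : Pm (1 : G3) 1 := fun i j e => by simpa [one_apply] using e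

theorem mul (hg : Pm g s) (hh : Pm h t) : Pm (g * h) (s * t) := fun i j e => by
  rw [Units.val_mul, mul_apply]
  refine Finset.sum_eq_zero fun k _ => ?_
  by_cases e' : k = t j
  · rw [hg i k (e' ▸ e), zero_mul]
  · rw [hh k j e', mul_zero]

theorem pow (hg : Pm g s) (n : ℕ) : Pm (g ^ n) (s ^ n) := by
  induction n with
  | zero => simpa using one
  | succ n ih => rw [pow_succ, pow_succ]; exact ih.mul hg

theorem exists_dg (hg : Pm g 1) : ∃ a b c, g = dg a b c :=
  ⟨Units.mk0 _ (hg.ne 0), Units.mk0 _ (hg.ne 1), Units.mk0 _ (hg.ne 2), gext (ext3 (by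
    have h : ∀ i j, i ≠ j → (g : M3) i j = 0 := hg
    simp [h]))⟩

theorem comm (hg : Pm g 1) (hh : Pm h 1) : g * h = h * g := by
  obtain ⟨a, b, c, rfl⟩ := hg.exists_dg
  obtain ⟨a', b', c', rfl⟩ := hh.exists_dg
  simp [dg_mul, mul_comm]

theorem pow_card [Fintype F] (hg : Pm g 1) : g ^ (Fintype.card F - 1) = 1 := by
  classical
  obtain ⟨a, b, c, rfl⟩ := hg.exists_dg
  simp [dg_pow, ← Fintype.card_units, dg_one]

end Pm

/-- The coordinate axes. -/
def axes (F : Type*) [Field F] (i : Fin 3) : Submodule F (Fin 3 → F) := F ∙ Pi.single i 1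

/-- The monomial group. -/
def Mon (F : Type*) [Field F] : Subgroup (GL (Fin 3) F) := decompositionStabilizer (axes F)

theorem mem_Mon {g : G3} : g ∈ Mon F ↔ ∃ s, Pm g s := by
  refine exists_congr fun s => ⟨fun h i j e => ?_, fun h j => ?_⟩
  · obtain ⟨c, hc⟩ := Submodule.mem_span_singleton.1 ((h j).le
      (Submodule.mem_map_of_mem (Submodule.mem_span_singleton_self _)))
    simpa [e] using (congrFun hc i).symm
  · rw [axes, axes, Submodule.map_span, Set.image_singleton,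
      ← Submodule.span_singleton_smul_eq (Ne.isUnit (h.ne j)) (Pi.single (s j) (1 : F) : Fin 3 → F)]
    congr 2
    ext i
    by_cases e : i = s j
    · simp [e]
    · simp [e, h i j e]

theorem exists_frame_pl {D : Fin 3 → Submodule F (Fin 3 → F)} (hD : IsMDecomposition 1 D)
    {v : Fin 3 → Fin 3 → F} (hv : ∀ i, v i ∈ D i) (hv0 : ∀ i, v i ≠ 0) :
    ∃ P : G3, (∀ i, (P : M3) *ᵥ Pi.single i 1 = v i) ∧
      pl P (decompositionStabilizer D) = Mon F := by
  have hl : LinearIndependent F (Matrix.of v)ᵀ.col := hD.indep.linearIndependent D hv hv0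
  obtain ⟨P, hP⟩ := Matrix.linearIndependent_cols_iff_isUnit.1 hl
  have e : ∀ i, (P : M3) *ᵥ Pi.single i 1 = v i := fun i => by ext j; simp [hP]
  have e' : ∀ i, D i = (axes F i).map (toLin' (P : M3)) := fun i => by
    rw [axes, Submodule.map_span, Set.image_singleton, toLin'_apply, e]
    exact eq_span_singleton_of_mem_of_finrank_eq_one (hD.finrank_eq i) (hv i) (hv0 i)
  refine ⟨P, e, Subgroup.ext fun g => exists_congr fun s => forall_congr' fun i => ?_⟩
  rw [e', e', ← Submodule.map_comp, ← toLin'_mul]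
  change Submodule.map (toLin' (((P * g * P⁻¹ : G3) : M3) * (P : M3))) _ = _ ↔ _
  rw [← Units.val_mul, inv_mul_cancel_right, Units.val_mul, toLin'_mul, Submodule.map_comp]
  exact (Submodule.map_injective_of_injective fun x y h => by
    simpa only [inv_mulVec_mulVec, toLin'_apply] using
      congrArg (((P⁻¹ : G3) : M3) *ᵥ ·) h).eq_iff

theorem exists_pl_Mon {D : Fin 3 → Submodule F (Fin 3 → F)} (hD : IsMDecomposition 1 D) :
    ∃ P : G3, pl P (decompositionStabilizer D) = Mon F := by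
  choose v hv hv0 using AL.IsMDecomposition.exists_ne_zero hD
  exact (exists_frame_pl hD hv hv0).imp fun _ h => h.2

theorem dg_mem_Mon (a b c : Fˣ) : dg a b c ∈ Mon F :=
  mem_Mon.2 ⟨1, fun i j e => by fin_cases i <;> fin_cases j <;> simp_all⟩

theorem ww_mem_Mon : ww ∈ Mon F :=
  mem_Mon.2 ⟨Equiv.swap 0 2, fun i j e => by
    fin_cases i <;> fin_cases j <;> first | rfl | exact absurd (by decide) e⟩

theorem w2_mem_Mon : w2 ∈ Mon F :=
  mem_Mon.2 ⟨Equiv.swap 1 2, fun i j e => by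
    fin_cases i <;> fin_cases j <;> first | rfl | exact absurd (by decide) e⟩

variable [Fintype F]

/-- Properties of monomial groups. -/
structure PD (X : Subgroup G3) : Prop where
  d4 : ∀ a ∈ X, ∀ b ∈ X, a * b = b * a → a ^ (Fintype.card F - 1) = 1 ∨
    b ^ (Fintype.card F - 1) = 1 ∨ (a * b) ^ (Fintype.card F - 1) = 1 ∨
      (a * b⁻¹) ^ (Fintype.card F - 1) = 1
  d6 : ∀ a ∈ X, ∀ b ∈ X, a ^ 6 * b ^ 6 = b ^ 6 * a ^ 6
  dt : ∀ g ∈ X, (g : M3) * g + 1 = (2 : F) • (g : M3) → (g * g) ^ (Fintype.card F - 1) = 1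

theorem PD.mono {X Y : Subgroup G3} (h : PD X) (hY : Y ≤ X) : PD Y :=
  ⟨fun a ha b hb => h.d4 a (hY ha) b (hY hb), fun a ha b hb => h.d6 a (hY ha) b (hY hb),
    fun g hg => h.dt g (hY hg)⟩

theorem conj_pow_eq_one {Γ : Type*} [Group Γ] {P a : Γ} {n : ℕ} :
    (P * a * P⁻¹) ^ n = 1 ↔ a ^ n = 1 := by rw [conj_pow, conj_eq_one_iff]

theorem PD.pl {X : Subgroup G3} (h : PD X) (P : G3) : PD (pl P X) := by
  refine ⟨fun a ha b hb e => ?_, fun a ha b hb => ?_, fun g hg e => ?_⟩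
  · have := h.d4 _ (mem_pl.1 ha) _ (mem_pl.1 hb) (by rw [conj_mul, conj_mul, e])
    simpa only [conj_mul, conj_inv, conj_pow_eq_one] using this
  · have := h.d6 _ (mem_pl.1 ha) _ (mem_pl.1 hb)
    simpa only [conj_mul, conj_pow, mul_left_inj, mul_right_inj] using this
  · have := h.dt _ (mem_pl.1 hg) (by
      rw [← cj_coe, ← map_mul, ← map_smul, ← e, map_add, map_one])
    simpa only [conj_mul, conj_pow_eq_one] using this

theorem pD_Mon : PD (Mon F) := by
  refine ⟨fun a ha b hb e => ?_, fun a ha b hb => ?_, fun g hg e => ?_⟩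
  · obtain ⟨s, hs⟩ := mem_Mon.1 ha
    obtain ⟨t, ht⟩ := mem_Mon.1 hb
    obtain ⟨u, hu⟩ := mem_Mon.1 (inv_mem hb)
    have h1 := (hs.mul ht).unique (e ▸ ht.mul hs)
    have h2 := (ht.mul hu).unique (by simpa using Pm.one)
    have : ∀ s t u : Equiv.Perm (Fin 3), s * t = t * s → t * u = 1 →
      s = 1 ∨ t = 1 ∨ s * t = 1 ∨ s * u = 1 := by decide +kernel
    rcases this s t u h1 h2 with h | h | h | h
    · exact Or.inl (Pm.pow_card (h ▸ hs))
    · exact Or.inr (Or.inl (Pm.pow_card (h ▸ ht)))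
    · exact Or.inr (Or.inr (Or.inl (Pm.pow_card (h ▸ hs.mul ht))))
    · exact Or.inr (Or.inr (Or.inr (Pm.pow_card (h ▸ hs.mul hu))))
  · obtain ⟨s, hs⟩ := mem_Mon.1 ha
    obtain ⟨t, ht⟩ := mem_Mon.1 hb
    have : ∀ s : Equiv.Perm (Fin 3), s ^ 6 = 1 := by decide +kernel
    exact Pm.comm (this s ▸ hs.pow 6) (this t ▸ ht.pow 6)
  · obtain ⟨s, hs⟩ := mem_Mon.1 hg
    have : ∀ s : Equiv.Perm (Fin 3), s * s = 1 ∨ (0 ≠ s 0 ∧ 0 ≠ (s * s) 0) := by decide +kernel
    rcases this s with h | h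
    · exact Pm.pow_card (h ▸ hs.mul hs)
    · have h1 := hs.mul hs _ _ h.2
      have h2 := congrFun (congrFun e 0) 0
      rw [Units.val_mul] at h1
      simp [h1, hs _ _ h.1] at h2

theorem pD_of_pl {X : Subgroup G3} {P : G3} (h : pl P X = Mon F) : PD X := by
  have := pD_Mon.pl (F := F) P⁻¹
  rwa [← h, pl_pl, mul_inv_cancel, show pl 1 X = X from Subgroup.ext fun g => by simp [mem_pl]]
    at this

theorem pD_dec {D : Fin 3 → Submodule F (Fin 3 → F)} (hD : IsMDecomposition 1 D) :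
    PD (decompositionStabilizer D) := (exists_pl_Mon hD).elim fun _ => pD_of_pl

namespace PD

variable {X : Subgroup (GL (Fin 3) F)}

theorem pow_six (h : PD X) {g : G3} (hg : g ∈ X) : g ^ (6 * (Fintype.card F - 1)) = 1 := by
  have k : ∀ m n, m * n = 6 → (g ^ m) ^ (Fintype.card F - 1) = 1 →
      g ^ (6 * (Fintype.card F - 1)) = 1 := fun m n e h => by
    rw [← e, mul_comm m, mul_assoc, mul_comm n, pow_mul, pow_mul, h, one_pow]
  rcases h.d4 g hg (g * g) (mul_mem hg hg) (mul_assoc _ _ _).symm with e | e | e | e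
  · exact k 1 6 rfl (by simpa using e)
  · exact k 2 3 rfl (by simpa [sq] using e)
  · exact k 3 2 rfl (by simpa [pow_succ, mul_assoc] using e)
  · exact k 1 6 rfl (by simpa using e)

/-- Two commuting unipotent elements. -/
theorem not_uu (h : PD X) {a b c a' b' c' : F} (h1 : uu a b c ∈ X) (h2 : uu a' b' c' ∈ X)
    (e : a * c' = a' * c) : (a = 0 ∧ b = 0 ∧ c = 0) ∨ (a' = 0 ∧ b' = 0 ∧ c' = 0) ∨
      (a + a' = 0 ∧ b + b' + a * c' = 0 ∧ c + c' = 0) ∨ (a = a' ∧ b = b' ∧ c = c') := by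
  rcases h.d4 _ h1 _ h2 (by rw [uu_mul, uu_mul, e]; congr 1 <;> ring) with k | k | k | k
  · exact Or.inl (uu_eq_zero_of_pow k)
  · exact Or.inr (Or.inl (uu_eq_zero_of_pow k))
  · exact Or.inr (Or.inr (Or.inl (uu_eq_zero_of_pow (uu_mul a b c a' b' c' ▸ k))))
  · rw [uu_inv, uu_mul] at k
    obtain ⟨k1, k2, k3⟩ := uu_eq_zero_of_pow k
    exact Or.inr (Or.inr (Or.inr ⟨by linear_combination k1,
      by linear_combination k2 + c' * k1, by linear_combination k3⟩))

theorem two_eq (h : PD X) {b : F} (h1 : uu 0 b 0 ∈ X) : 2 * b = 0 := by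
  have := h.dt _ h1 (ext3 (by simp [Matrix.mul_apply, Fin.sum_univ_three]; norm_num [two_mul]))
  rw [uu_mul] at this
  linear_combination (uu_eq_zero_of_pow this).2.1

end PD

end Cfsg.Lib.Mit.Mx
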