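import Cfsg.Agent.Mit.MxK
import Cfsg.Agent.Class.Asch.ExtraChar
import Cfsg.Agent.Class.PSL2Subfield

/-!
# Trace conditions in subfield subgroups and similarity groups
-/

set_option autoImplicit false

namespace Cfsg.Lib.Mit.Mx

open Matrix Cfsg.Geo Cfsg.Lib.Class Cfsg.Lib.Class.Asch
open scoped MatrixGroups commutatorElement

variable {F : Type*} [Field F]

local notation "G3" => GL (Fin 3) F
local notation "M3" => Matrix (Fin 3) (Fin 3) F
local notation "S3" => scalars (Fin 3) F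
local notation "SL3" => specialLinear (Fin 3) F

theorem pl_one (X : Subgroup G3) : pl 1 X = X := Subgroup.ext fun g => by simp [mem_pl]

theorem pl_inv_pl (P : G3) (X : Subgroup G3) : pl P⁻¹ (pl P X) = X := by
  rw [pl_pl, mul_inv_cancel, pl_one]

/-- The matrices over a subfield. -/
def Rt (F₀ : Subfield F) : Subgroup G3 :=
  (Matrix.GeneralLinearGroup.map (F₀.subtype : F₀ →+* F)).range

theorem mem_Rt {F₀ : Subfield F} {g : G3} : g ∈ Rt F₀ ↔ ∀ i j, (g : M3) i j ∈ F₀ := by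
  refine ⟨?_, fun h => ?_⟩
  · rintro ⟨a, rfl⟩ i j
    exact (a.1 i j).2
  · obtain ⟨Y, hY⟩ := exists_incl_iff.2 h
    have e : ((Y.det : F₀) : F) = (g : M3).det := by
      rw [← hY]
      exact (RingHom.map_det F₀.subtype Y)
    refine ⟨GeneralLinearGroup.mkOfDetNeZero Y fun h0 => ?_, gext hY⟩
    rw [h0] at e
    exact g.det_ne_zero e.symm

theorem pl_subfield (F₀ : Subfield F) (P : G3) : pl P (subfieldSubgroup F₀ P) = Rt F₀ ⊔ S3 :=
  Subgroup.comap_map_eq_self_of_injective (MulEquiv.injective _) _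

theorem pl_subfield' {F₀ : Subfield F} (P : G3) {R : G3} (hR : R ∈ Rt F₀) :
    pl (P * R) (subfieldSubgroup F₀ P) = Rt F₀ ⊔ S3 := by
  rw [← pl_pl, pl_subfield]
  ext g
  rw [mem_pl, mul_mem_cancel_right (inv_mem (Subgroup.mem_sup_left hR)),
    mul_mem_cancel_left (Subgroup.mem_sup_left hR)]

theorem uu_mem_Rt {F₀ : Subfield F} {a b c : F} (ha : a ∈ F₀) (hb : b ∈ F₀) (hc : c ∈ F₀) :
    uu a b c ∈ Rt F₀ :=
  mem_Rt.2 fun i j => by fin_cases i <;> fin_cases j <;> simp [*]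

theorem ww_mem_Rt (F₀ : Subfield F) : ww ∈ Rt F₀ :=
  mem_Rt.2 fun i j => by fin_cases i <;> fin_cases j <;> simp

theorem dg_mem_Rt {F₀ : Subfield F} {a b c : Fˣ} (ha : (a : F) ∈ F₀) (hb : (b : F) ∈ F₀)
    (hc : (c : F) ∈ F₀) : dg a b c ∈ Rt F₀ :=
  mem_Rt.2 fun i j => by fin_cases i <;> fin_cases j <;> simp [*]

variable [Fintype F]

/-- `Y` contains the kernel of a map from `X` to an elementary abelian group of cube roots. -/
structure Ker3 (X Y : Subgroup G3) : Prop where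
  cube : ∀ g ∈ X, g ^ 3 ∈ Y
  card : ∀ g ∈ X, g ^ (Fintype.card F - 1) ∈ Y
  comm : ∀ a ∈ X, ∀ b ∈ X, a * b * a⁻¹ * b⁻¹ ∈ Y

/-- Trace condition on a large part of `X`. -/
def PT (X : Subgroup G3) (T : F → F → Prop) : Prop :=
  ∃ Y, Ker3 X Y ∧ ∀ g ∈ Y, T (tr g) (tr g⁻¹)

variable {X Y : Subgroup (GL (Fin 3) F)} {T T' : F → F → Prop}

theorem ker3_of (hX : X ≤ SL3) (h : X ≤ Y ⊔ S3)
    (hd : ∀ y ∈ Y, scalarGL (Fin 3) (GeneralLinearGroup.det y) ∈ Y) : Ker3 X Y := by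
  classical
  refine ⟨fun g hg => ?_, fun g hg => ?_, fun a ha b hb => ?_⟩
  · obtain ⟨y, hy, c, rfl⟩ := mem_sup_scalars.1 (h hg)
    have e : c ^ 3 * GeneralLinearGroup.det y = 1 := Units.ext (by
      simpa using AL.mem_specialLinear'.1 (hX hg))
    rw [Commute.mul_pow (scalarGL_comm c y).symm, ← map_pow, eq_inv_of_mul_eq_one_left e, map_inv]
    exact mul_mem (inv_mem (hd y hy)) (pow_mem hy 3)
  · obtain ⟨y, hy, c, rfl⟩ := mem_sup_scalars.1 (h hg)
    rw [Commute.mul_pow (scalarGL_comm c y).symm, ← map_pow, ← Fintype.card_units, pow_card_eq_one,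
      map_one, one_mul]
    exact pow_mem hy _
  · obtain ⟨y, hy, c, rfl⟩ := mem_sup_scalars.1 (h ha)
    obtain ⟨z, hz, d, rfl⟩ := mem_sup_scalars.1 (h hb)
    convert mul_mem (mul_mem (mul_mem hy hz) (inv_mem hy)) (inv_mem hz) using 1
    refine gext ?_
    simp only [_root_.mul_inv_rev, ← map_inv, Units.val_mul, coe_scalarGL, Matrix.smul_mul,
      Matrix.mul_smul, one_mul, mul_one, smul_smul]
    rw [← Units.val_mul, ← Units.val_mul, ← Units.val_mul]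
    simp

namespace Ker3

theorem mono (h : Ker3 X Y) {Z : Subgroup G3} (hZ : Z ≤ X) : Ker3 Z Y :=
  ⟨fun g hg => h.cube g (hZ hg), fun g hg => h.card g (hZ hg),
    fun a ha b hb => h.comm a (hZ ha) b (hZ hb)⟩

theorem uu (h : Ker3 X Y) {a b c : F} (hu : uu a b c ∈ X) : uu a b c ∈ Y :=
  uu_mem_of_pow (h.card _ hu)

theorem invol (h : Ker3 X Y) {g : G3} (hg : g ∈ X) (e : g * g = 1) : g ∈ Y := by
  simpa [pow_succ, e] using h.cube g hg

theorem real (h : Ker3 X Y) {g t : G3} (hg : g ∈ X) (ht : t ∈ X) (e : t * g * t⁻¹ = g⁻¹) :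
    g ∈ Y := by
  have := mul_mem (h.cube g hg) (h.comm t ht g hg)
  rwa [e, show g ^ 3 * (g⁻¹ * g⁻¹) = g by group] at this

end Ker3

namespace PT

theorem mono (h : PT X T) {Z : Subgroup G3} (hZ : Z ≤ X) : PT Z T :=
  h.imp fun _ h => ⟨h.1.mono hZ, h.2⟩

theorem and (h : PT X T) (h' : PT X T') : PT X fun a b => T a b ∧ T' a b := by
  obtain ⟨Y, h1, h2⟩ := h
  obtain ⟨Z, h3, h4⟩ := h'
  exact ⟨Y ⊓ Z, ⟨fun g hg => ⟨h1.cube g hg, h3.cube g hg⟩, fun g hg => ⟨h1.card g hg, h3.card g hg⟩,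
    fun a ha b hb => ⟨h1.comm a ha b hb, h3.comm a ha b hb⟩⟩, fun g hg => ⟨h2 g hg.1, h4 g hg.2⟩⟩

theorem imp (h : PT X T) (h' : ∀ a b, T a b → T' a b) : PT X T' :=
  Exists.imp (fun _ h => ⟨h.1, fun g hg => h' _ _ (h.2 g hg)⟩) h

theorem pl (h : PT X T) (P : G3) : PT (pl P X) T := by
  obtain ⟨Y, h1, h2⟩ := h
  refine ⟨Mit.pl P Y, ⟨fun g hg => ?_, fun g hg => ?_, fun a ha b hb => ?_⟩, fun g hg => ?_⟩
  · simpa only [mem_pl, conj_pow] using h1.cube _ (mem_pl.1 hg)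
  · simpa only [mem_pl, conj_pow] using h1.card _ (mem_pl.1 hg)
  · simpa only [mem_pl, conj_mul, conj_inv] using h1.comm _ (mem_pl.1 ha) _ (mem_pl.1 hb)
  · simpa only [conj_inv, tr_conj] using h2 _ (mem_pl.1 hg)

theorem ww_uu (h : PT X T) (hw : ww ∈ X) {a b c : F} (hu : uu a b c ∈ X) :
    T (b - 1) (a * c - b - 1) := by
  obtain ⟨Y, h1, h2⟩ := h
  simpa only [tr_ww_uu, tr_ww_uu_inv] using h2 _ (mul_mem (h1.invol hw ww_mul_ww) (h1.uu hu))

theorem d1 (h : PT X T) (hw : ww ∈ X) {x : Fˣ} (hd : dg x 1 x⁻¹ ∈ X) :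
    T (x + (x⁻¹ : Fˣ) + 1) (x + (x⁻¹ : Fˣ) + 1) := by
  obtain ⟨Y, h1, h2⟩ := h
  have := h2 _ (h1.real hd hw (by simp [ww_dg, dg_inv]))
  rw [dg_inv, tr_dg, tr_dg] at this
  convert this using 1 <;> simp <;> ring

theorem d2 {T : F → F → Prop} (h : PT X T) (hT : ∀ a b, T a b → a = b) (hw : ww ∈ X) (hw' : w2 ∈ X)
    {x : Fˣ} (hd : dg x 1 x⁻¹ ∈ X) (hd' : dg 1 x x⁻¹ ∈ X) : x = 1 ∨ x = -1 := by
  obtain ⟨Y, h1, h2⟩ := h
  have := hT _ _ (h2 _ (mul_mem (h1.real hd hw (by simp [ww_dg, dg_inv]))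
    (h1.real hd' hw' (by simp [w2_dg, dg_inv]))))
  rw [dg_mul, dg_inv, tr_dg, tr_dg] at this
  have e : ((x : F) - 1) ^ 3 * (x + 1) = 0 := by
    have hx := x.ne_zero
    simp only [Units.val_mul, Units.val_inv_eq_inv_val, mul_one, one_mul] at this
    field_simp at this
    linear_combination -this
  rcases mul_eq_zero.1 e with e | e
  · exact Or.inl (Units.ext (by simpa [sub_eq_zero] using e))
  · exact Or.inr (Units.ext (by simpa [add_eq_zero_iff_eq_neg] using e))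

theorem cube (h : PT X T) {s : G3} (hs : s ∈ X) (k : ℕ) :
    T (tr ((s ^ k) ^ 3)) (tr ((s ^ k) ^ 3)⁻¹) := by
  obtain ⟨Y, h1, h2⟩ := h
  exact h2 _ (h1.cube _ (pow_mem hs k))

theorem comm (h : PT X T) {a b : G3} (ha : a ∈ X) (hb : b ∈ X) :
    T (tr (a * b * a⁻¹ * b⁻¹)) (tr (a * b * a⁻¹ * b⁻¹)⁻¹) := by
  obtain ⟨Y, h1, h2⟩ := h
  exact h2 _ (h1.comm _ ha _ hb)

end PT

theorem pT_subfield {F₀ : Subfield F} {P : G3} (h1 : X ≤ subfieldSubgroup F₀ P) (h2 : X ≤ SL3) :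
    PT X fun a b => a ∈ F₀ ∧ b ∈ F₀ := by
  have t : ∀ g ∈ Rt F₀, tr g ∈ F₀ := fun g hg =>
    sum_mem (t := Finset.univ) fun i _ => mem_Rt.1 hg i i
  rw [← pl_inv_pl P X]
  refine PT.pl ⟨Rt F₀, ker3_of (pl_SL P ▸ pl_mono h2) (pl_subfield F₀ P ▸ pl_mono h1)
    fun y hy => mem_Rt.2 fun i j => ?_, fun g hg => ⟨t g hg, t _ (inv_mem hg)⟩⟩ _
  have := mem_Rt.1 hy
  rw [coe_scalarGL, Matrix.smul_apply, smul_eq_mul, GeneralLinearGroup.val_det_apply, det_fin_three]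
  refine mul_mem ?_ (by rw [one_apply]; split_ifs <;> simp)
  apply_rules [sub_mem, add_mem, mul_mem]

theorem pT_sim {σ : F ≃+* F} {f : (Fin 3 → F) → (Fin 3 → F) → F} (hf : IsSesq σ 1 f)
    (h1 : X ≤ similarityGroup f) (h2 : X ≤ SL3) : PT X fun a b => b = σ a := by
  refine ⟨isoms f, ker3_of h2 (fun g hg => ?_) fun y hy => (hf.mem_isoms_iff _).2 ?_,
    fun g hg => hf.trace_inv hg⟩
  · obtain ⟨c, -, hc, e⟩ := IsSesq.exists_adj_coe_of_pow hf (h1 hg) (pow_orderOf_eq_one g)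
    have d := congrArg det e
    rw [hf.det_adj, det_smul, det_eq_one (h2 hg), det_eq_one (inv_mem (h2 hg))] at d
    refine mem_sup_scalars.2 ⟨scalarGL _ c * g, (hf.mem_isoms_iff _).2 ?_, c⁻¹, by
      rw [← mul_assoc, ← map_mul, inv_mul_cancel, map_one, one_mul]⟩
    rw [coe_scalarGL_mul, hf.adj_smul, e, hc, Matrix.smul_mul, Matrix.smul_mul, Matrix.mul_smul,
      Units.inv_mul, smul_smul, smul_smul]
    rw [show (c : F) * c * c = 1 by simpa [pow_succ] using d.symm, one_smul]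
  · have d := congrArg det ((hf.mem_isoms_iff _).1 hy)
    rw [det_mul, hf.det_adj, det_one] at d
    rw [coe_scalarGL, hf.adj_smul_one, Matrix.smul_mul, one_mul, smul_smul,
      GeneralLinearGroup.val_det_apply, d, one_smul]

open Polynomial in
theorem orderOf_le_two_mul {F₀ : Subfield F} {x : Fˣ}
    (h : ∀ k : ℕ, ((x ^ k : Fˣ) : F) + ((x ^ k)⁻¹ : Fˣ) + 1 ∈ F₀) :
    orderOf x ≤ 2 * Nat.card F₀ := by
  classical
  rw [← Finset.card_range (orderOf x), Nat.card_eq_fintype_card]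
  refine Finset.card_le_mul_card_image_of_maps_to (f := fun k => (⟨_, h k⟩ : F₀))
    (t := Finset.univ) (fun _ _ => Finset.mem_univ _) 2 fun y _ => ?_
  let p : F[X] := Polynomial.X ^ 2 - C ((y : F) - 1) * Polynomial.X + 1
  have hp : p.natDegree = 2 := by simp only [p]; compute_degree!
  have hp0 : p ≠ 0 := fun e => by simp [e] at hp
  refine le_trans (Finset.card_le_card_of_injOn (fun k => ((x ^ k : Fˣ) : F))
    (t := p.roots.toFinset) (fun k hk => ?_) fun k hk l hl e => ?_)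
    ((Multiset.toFinset_card_le _).trans (hp ▸ card_roots' p))
  · obtain ⟨-, rfl⟩ := Finset.mem_filter.1 hk
    refine Multiset.mem_toFinset.2 ((mem_roots hp0).2 ?_)
    simp only [p, IsRoot.def, eval_sub, eval_add, eval_mul, eval_pow, eval_X, eval_C, eval_one]
    linear_combination -(x ^ k).inv_mul
  · exact pow_injOn_Iio_orderOf (Finset.mem_range.1 (Finset.mem_filter.1 hk).1)
      (Finset.mem_range.1 (Finset.mem_filter.1 hl).1) (Units.ext e)

end Cfsg.Lib.Mit.Mx
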